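import Cfsg.Agent.Lib.WrS4QT.Sub

/-!
# Finite facts about the Sylow subgroup of the model
-/

set_option autoImplicit false
set_option maxRecDepth 4000

namespace Cfsg.Agent.Lib.WrS4QT.W

theorem four_facts : ∀ u ∈ TL, ∀ v ∈ TL,
    (u ∈ AW → v ∈ AW → u * v = v * u ∧ u * u = 1) ∧ (u ∈ BW → v ∈ BW → u * v = v * u ∧ u * u = 1) ∧
    (u ∈ T0W → v ∈ T0W → u * v * u⁻¹ * v⁻¹ ∈ Z0W) ∧ (u ∈ T0W → v ∈ Z0W → u * v = v * u) ∧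
    (u ∈ T0W → v ∈ EW → u * v * u⁻¹ ∈ EW) ∧ (u ∈ T0W → v ∈ FW → u * v * u⁻¹ ∈ FW) := by
  decide +kernel

theorem cent_facts : ∀ u ∈ TL,
    (u * x1 = x1 * u → u * x2 = x2 * u → u * z1 = z1 * u → u * z2 = z2 * u → u ∈ BW) ∧
    (u * z1 = z1 * u → u ∈ T0W) ∧ (u ∈ T0W → u * z1 = z1 * u ∧ u * z2 = z2 * u) ∧
    (u * zz = zz * u) := by
  decide +kernel

theorem subset_TW : ∀ u : W, (u ∈ BW → u ∈ T0W) ∧ (u ∈ AW → u ∈ T0W) ∧ (u ∈ EW → u ∈ T0W) ∧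
    (u ∈ FW → u ∈ T0W) ∧ (u ∈ Z0W → u ∈ BW ∧ u ∈ AW) ∧ (u ∈ T0W → u ∈ TW) := by
  decide +kernel

theorem misc_B : x1 ∈ BW ∧ x2 ∈ BW ∧ z1 ∈ BW ∧ z2 ∈ BW ∧ zz ∈ BW ∧ zz ∈ AW ∧ x1 ∉ AW ∧ a1 ∈ EW ∧ a1 ∉ BW ∧
    x2 * z1 ≠ 1 ∧ zz ∈ TW := by decide +kernel

end Cfsg.Agent.Lib.WrS4QT.W
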