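import Cfsg.Agent.Lib.WrS4QT.Data
import Cfsg.Agent.Lib.WrS4QT.Facts
import Cfsg.Agent.S1243

/-!
# Rank four subgroups, weak closure and fusion
-/

set_option autoImplicit false
set_option linter.style.haveILetI false
set_option linter.unusedSectionVars false
set_option maxRecDepth 4000

open Cfsg

namespace Cfsg.Agent.Lib.WrS4QT

open W

/-- Conjugate of a subgroup. -/
abbrev cj {G : Type*} [Group G] (g : G) (X : Subgroup G) : Subgroup G := X.map (MulAut.conj g).toMonoidHom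

theorem cj_cj {G : Type*} [Group G] (g h : G) (X : Subgroup G) : cj g (cj h X) = cj (g * h) X := by
  rw [cj, cj, cj, Subgroup.map_map]
  congr 1
  ext x
  simp [mul_assoc]

theorem cj_eq_iff {G : Type*} [Group G] {g : G} {X : Subgroup G} :
    cj g X = X ↔ g ∈ Subgroup.normalizer (X : Set G) := Subgroup.mem_normalizer_iff_map_conj_eq.symm

theorem mem_cj {G : Type*} [Group G] {g x : G} {X : Subgroup G} : x ∈ cj g X ↔ g⁻¹ * x * g ∈ X := by
  constructor
  · rintro ⟨y, hy, rfl⟩; simpa [mul_assoc] using hy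
  · intro h; exact ⟨_, h, by simp [mul_assoc]⟩

/-- The four subgroups of rank four. -/
def four : Fin 4 → Subgroup W := ![AW, BW, EW, FW]

/-- Membership in the four subgroups, decidably. -/
def fourB (i : Fin 4) (u : W) : Bool :=
  !u.s && (if i = 0 ∨ i = 2 then S4.inV u.a else S4.inW u.a) && (if i = 0 ∨ i = 3 then S4.inV u.b else S4.inW u.b)

theorem mem_four {i : Fin 4} {u : W} : u ∈ four i ↔ fourB i u = true := by
  fin_cases i <;>
    simp only [four, AW, BW, EW, FW, fourB, prodSub] <;> simp [S4.mem_VSub, S4.mem_WSub, and_assoc]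

theorem fourB_facts : ∀ i : Fin 4, ∀ u ∈ TL, ∀ v ∈ TL, fourB i u = true → fourB i v = true →
    u * v = v * u ∧ u * u = 1 := by
  decide +kernel

theorem fourB_inter : ∀ i j : Fin 4,
    ((TL.filter fun u => fourB i u && fourB j u).length = 4 ↔ j = ![1, 0, 3, 2] i) ∧
      (TL.filter fun u => fourB i u).length = 16 := by
  decide +kernel

theorem four_le : ∀ i, four i ≤ T0W := by
  intro i u hu
  fin_cases i
  · exact (subset_TW u).2.1 hu
  · exact (subset_TW u).1 hu
  · exact (subset_TW u).2.2.1 hu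
  · exact (subset_TW u).2.2.2.1 hu

theorem four_of_elem {S : Subgroup W} (hS : S ≤ TW) (hc : Nat.card S = 16)
    (hcomm : ∀ u ∈ S, ∀ v ∈ S, u * v = v * u) (hsq : ∀ u ∈ S, u * u = 1) : ∃ i, S = four i := by
  classical
  have hlist : ∀ (L : List W), (∀ u ∈ S, u ∈ L) → 16 ≤ L.length := by
    intro L hL
    rw [← hc, Nat.card_eq_fintype_card]
    refine le_trans ?_ L.toFinset_card_le
    rw [← Fintype.card_coe]
    exact Fintype.card_le_of_injective (fun u : S => (⟨u.1, List.mem_toFinset.2 (hL u u.2)⟩ : L.toFinset))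
      fun a b h => Subtype.ext (congrArg Subtype.val h :)
  have hbase : ∀ u ∈ S, u.s = false := by
    intro u hu
    cases hs : u.s
    · rfl
    exfalso
    set L0 := TL.filter fun t => decide (t ∈ T0W ∧ t * t = 1 ∧ t * u = u * t)
    have h6 : L0.length ≤ 6 := rank_s u (mem_TL (hS hu)) hs (hsq u hu)
    have h1 : ∀ v ∈ S, v ∈ L0 ++ L0.map (u * ·) := by
      intro v hv
      have key : ∀ w ∈ S, w.s = false → w ∈ L0 := fun w hw hws => List.mem_filter.2
        ⟨mem_TL (hS hw), decide_eq_true ⟨⟨hws, (hS hw).1, (hS hw).2⟩, hsq w hw, hcomm w hw u hu⟩⟩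
      cases hvs : v.s
      · exact List.mem_append_left _ (key v hv hvs)
      · refine List.mem_append_right _ (List.mem_map.2 ⟨u * v, key _ (S.mul_mem hu hv) ?_, ?_⟩)
        · obtain ⟨a, b, s⟩ := u
          cases hs
          obtain ⟨a', b', s'⟩ := v
          cases hvs
          rfl
        · rw [← mul_assoc, hsq u hu, one_mul]
    have := hlist _ h1
    rw [List.length_append, List.length_map] at this
    omega
  have hco : ∀ (π : W → S4), (∀ u v : W, u.s = false → π (u * v) = π u * π v) → π 1 = 1 →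
      (∀ u ∈ TW, π u ∈ S4.DSub) →
      (∀ u ∈ S, π u ∈ S4.VSub) ∨ (∀ u ∈ S, π u ∈ S4.WSub) := by
    intro π hπ h1 hD
    by_contra h
    push Not at h
    obtain ⟨⟨u, hu, huV⟩, v, hv, hvW⟩ := h
    have e1 : π u * π u = 1 := by rw [← hπ u u (hbase u hu), hsq u hu, h1]
    have e2 : π v * π v = 1 := by rw [← hπ v v (hbase v hv), hsq v hv, h1]
    have e3 : π u * π v = π v * π u := by
      rw [← hπ u v (hbase u hu), ← hπ v u (hbase v hv), hcomm u hu v hv]
    rcases (rank_coord _ (mem_DL _ (hD u (hS hu))) _ (mem_DL _ (hD v (hS hv))) e1 e2 e3).2 with h | h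
    · exact huV h.1
    · exact hvW h.2
  have ha := hco W.a (fun u v hu => by obtain ⟨a, b, s⟩ := u; cases hu; rfl) rfl fun u hu => hu.1
  have hb := hco W.b (fun u v hu => by obtain ⟨a, b, s⟩ := u; cases hu; rfl) rfl fun u hu => hu.2
  have key : ∀ (X : Subgroup W) [DecidablePred (· ∈ X)], Fintype.card {u : W // u ∈ X} = 16 → S ≤ X → S = X :=
    fun X _ hX hle => Subgroup.eq_of_le_of_card_ge hle (by rw [hc, card_sub, hX])
  rcases ha with ha | ha <;> rcases hb with hb | hb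
  · exact ⟨0, key AW card_facts.2.2.1 fun u hu => ⟨hbase u hu, ha u hu, hb u hu⟩⟩
  · exact ⟨2, key EW card_facts.2.2.2.2.1 fun u hu => ⟨hbase u hu, ha u hu, hb u hu⟩⟩
  · exact ⟨3, key FW card_facts.2.2.2.2.2.1 fun u hu => ⟨hbase u hu, ha u hu, hb u hu⟩⟩
  · exact ⟨1, key BW card_facts.2.2.2.1 fun u hu => ⟨hbase u hu, ha u hu, hb u hu⟩⟩

theorem pair_four : ∀ σ : Fin 4 → Fin 4, (∀ i j, σ i = σ j → i = j) →
    (∀ i, σ (![1, 0, 3, 2] i) = ![1, 0, 3, 2] (σ i)) → σ (σ (σ (σ 0))) = 0 := by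
  decide +kernel

namespace Data

variable {G : Type*} [Group G] [Finite G] (d : Data G)

/-- The image of a subgroup of the model. -/
abbrev im (S : Subgroup W) : Subgroup G := S.map d.ι

theorem mem_im {S : Subgroup W} {u : W} : d.ι u ∈ d.im S ↔ u ∈ S := Subgroup.mem_map_iff_mem d.inj

theorem mem_TG {u : W} : d.ι u ∈ (d.T : Subgroup G) ↔ u ∈ TW := by rw [d.hT]; exact d.mem_im

theorem card_im (S : Subgroup W) : Nat.card (d.im S) = Nat.card S := Subgroup.card_map_of_injective d.inj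

theorem exists_of_T {g : G} (hg : g ∈ (d.T : Subgroup G)) : ∃ t ∈ TW, d.ι t = g := by
  rw [d.hT] at hg; exact hg

theorem T_le_normalizer {X : Subgroup W} (hX : X ≤ TW)
    (h : ∀ t ∈ TL, ∀ u ∈ TL, u ∈ X → t * u * t⁻¹ ∈ X) :
    (d.T : Subgroup G) ≤ Subgroup.normalizer (d.im X : Set G) := fun g hg => by
  obtain ⟨t, ht, rfl⟩ := d.exists_of_T hg
  refine Baumann.mem_normalizer_of_forall ?_
  rintro _ ⟨u, hu, rfl⟩
  exact ⟨_, h t (mem_TL ht) u (mem_TL (hX hu)) hu, by simp⟩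

theorem T_le_NT0 : (d.T : Subgroup G) ≤ Subgroup.normalizer (d.im T0W : Set G) :=
  d.T_le_normalizer (fun u hu => (subset_TW u).2.2.2.2.2 hu) fun t ht u hu => (T_normal t ht u hu).1

theorem T_le_NA : (d.T : Subgroup G) ≤ Subgroup.normalizer (d.im AW : Set G) :=
  d.T_le_normalizer AW_le_TW fun t ht u hu => (T_normal t ht u hu).2.1

theorem T_le_NB : (d.T : Subgroup G) ≤ Subgroup.normalizer (d.im BW : Set G) :=
  d.T_le_normalizer (fun u hu => (subset_TW u).2.2.2.2.2 ((subset_TW u).1 hu))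
    fun t ht u hu => (T_normal t ht u hu).2.2.1

theorem T_le_NZ0 : (d.T : Subgroup G) ≤ Subgroup.normalizer (d.im Z0W : Set G) :=
  d.T_le_normalizer (fun u hu => (subset_TW u).2.2.2.2.2 ((subset_TW u).1 ((subset_TW u).2.2.2.2.1 hu).1))
    fun t ht u hu => (T_normal t ht u hu).2.2.2

theorem card_eq_filter {S : Subgroup W} (hS : S ≤ TW) {f : W → Bool} (hf : ∀ u, u ∈ S ↔ f u = true) :
    Nat.card S = (TL.filter f).length := by
  rw [← List.toFinset_card_of_nodup (TL_nodup.filter f), ← Nat.card_eq_finsetCard]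
  refine Nat.card_congr (Equiv.subtypeEquivRight fun u => ?_)
  rw [List.mem_toFinset, List.mem_filter, hf]
  exact ⟨fun h => ⟨mem_TL (hS ((hf u).2 h)), h⟩, fun h => h.2⟩

theorem four_props (i : Fin 4) : Nat.card (d.im (four i)) = 16 ∧
    (∀ x ∈ d.im (four i), ∀ y ∈ d.im (four i), x * y = y * x) ∧ ∀ x ∈ d.im (four i), x * x = 1 := by
  have hle : four i ≤ TW := fun u hu => (subset_TW u).2.2.2.2.2 (four_le i hu)
  have hel : ∀ u ∈ four i, ∀ v ∈ four i, u * v = v * u ∧ u * u = 1 := fun u hu v hv =>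
    fourB_facts i u (mem_TL (hle hu)) v (mem_TL (hle hv)) (mem_four.1 hu) (mem_four.1 hv)
  refine ⟨by rw [card_im, card_eq_filter hle fun u => mem_four, (fourB_inter i i).2], ?_, ?_⟩
  · rintro _ ⟨u, hu, rfl⟩ _ ⟨v, hv, rfl⟩
    rw [← map_mul, ← map_mul, (hel u hu v hv).1]
  · rintro _ ⟨u, hu, rfl⟩
    rw [← map_mul, (hel u hu u hu).2, map_one]

theorem cj_four {g : G} {i : Fin 4} (h : cj g (d.im (four i)) ≤ (d.T : Subgroup G)) :
    ∃ j, cj g (d.im (four i)) = d.im (four j) := by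
  set X := cj g (d.im (four i))
  obtain ⟨h16, hcomm, hsq⟩ := d.four_props i
  have hX : X ≤ d.ι.range := h.trans (by rw [d.hT]; exact Subgroup.map_le_range _ _)
  set S := X.comap d.ι
  have hmap : d.im S = X := Subgroup.map_comap_eq_self hX
  have hc : Nat.card S = 16 := by
    rw [← d.card_im, hmap, ← h16]
    exact Subgroup.card_map_of_injective (MulAut.conj g).injective
  obtain ⟨j, hj⟩ := four_of_elem (S := S) (fun u hu => d.mem_TG.1 (h hu)) hc
    (fun u hu v hv => d.inj (by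
      obtain ⟨a, ha, hua⟩ := (hu : d.ι u ∈ X)
      obtain ⟨b, hb, hvb⟩ := (hv : d.ι v ∈ X)
      rw [map_mul, map_mul, ← hua, ← hvb, ← map_mul, ← map_mul, hcomm a ha b hb]))
    (fun u hu => d.inj (by
      obtain ⟨a, ha, hua⟩ := (hu : d.ι u ∈ X)
      rw [map_mul, ← hua, ← map_mul, hsq a ha, map_one, map_one]))
  exact ⟨j, by rw [← hj, hmap]⟩

theorem four_card_inf (i j : Fin 4) :
    Nat.card (d.im (four i) ⊓ d.im (four j) : Subgroup G) = 4 ↔ j = ![1, 0, 3, 2] i := by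
  rw [← Subgroup.map_inf _ _ _ d.inj, card_im,
    card_eq_filter (S := four i ⊓ four j) (f := fun u => fourB i u && fourB j u)
      (fun u hu => (subset_TW u).2.2.2.2.2 (four_le i hu.1))
      (fun u => by rw [Subgroup.mem_inf, mem_four, mem_four, Bool.and_eq_true])]
  exact (fourB_inter i j).1

theorem four_injective {i j : Fin 4} (h : d.im (four i) = d.im (four j)) : i = j := by
  by_contra hne
  have h16 := (d.four_props i).1
  by_cases hp : j = ![1, 0, 3, 2] i
  · have := (d.four_card_inf i j).2 hp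
    rw [← h, inf_idem, h16] at this
    omega
  · have h1 := (d.four_card_inf i (![1, 0, 3, 2] i)).2 rfl
    have h2 : ¬ ((![1, 0, 3, 2] i : Fin 4) = ![1, 0, 3, 2] j) := fun e =>
      hne ((by decide : ∀ i j : Fin 4, (![1, 0, 3, 2] i : Fin 4) = ![1, 0, 3, 2] j → i = j) i j e)
    rw [h] at h1
    exact h2 ((d.four_card_inf j _).1 h1)

theorem mem_N_of_cj {g : G} (h : cj g (d.im AW) = d.im AW) : g ∈ d.ι.range := by
  rw [← d.hN]; exact cj_eq_iff.1 h

/-- Fourth powers of elements keeping the four subgroups in `T` lie in the local. -/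
theorem pow_four_mem {n : G} (hn : ∀ i, cj n (d.im (four i)) ≤ (d.T : Subgroup G)) : n ^ 4 ∈ d.ι.range := by
  choose σ hσ using fun i => d.cj_four (hn i)
  have hinj : ∀ i j, σ i = σ j → i = j := fun i j h => d.four_injective (by
    have h1 : cj n (d.im (four i)) = cj n (d.im (four j)) := by rw [hσ, hσ, h]
    exact Subgroup.map_injective (MulAut.conj n).injective h1)
  have hp : ∀ i, σ (![1, 0, 3, 2] i) = ![1, 0, 3, 2] (σ i) := by
    intro i
    refine (d.four_card_inf _ _).1 ?_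
    rw [← hσ, ← hσ, cj, cj, ← Subgroup.map_inf _ _ _ (MulAut.conj n).injective]
    rw [Subgroup.card_map_of_injective (MulAut.conj n).injective]
    exact (d.four_card_inf _ _).2 rfl
  have h4 := pair_four σ hinj hp
  refine d.mem_N_of_cj ?_
  show cj (n ^ 4) (d.im (four 0)) = d.im (four 0)
  rw [show n ^ 4 = n * (n * (n * n)) by simp [pow_succ, mul_assoc], ← cj_cj, ← cj_cj, ← cj_cj, hσ, hσ, hσ, hσ, h4]

/-- `N(T₀) = T`. -/
theorem normalizer_T0 : Subgroup.normalizer (d.im T0W : Set G) = (d.T : Subgroup G) := by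
  haveI : Fact (Nat.Prime 2) := ⟨Nat.prime_two⟩
  refine d.T.3 ?_ d.T_le_NT0
  intro n
  have hle : ∀ i, cj (n : G) (d.im (four i)) ≤ (d.T : Subgroup G) := by
    intro i
    refine le_trans (Subgroup.map_mono (Subgroup.map_mono (four_le i))) ?_
    show cj (n : G) (d.im T0W) ≤ _
    rw [cj_eq_iff.2 n.2, d.hT]
    exact Subgroup.map_mono fun u hu => (subset_TW u).2.2.2.2.2 hu
  obtain ⟨m, hm⟩ := d.pow_four_mem hle
  have h1 : d.ι m ∈ Subgroup.normalizer (d.im T0W : Set G) := hm ▸ pow_mem n.2 4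
  have h2 : ∀ u ∈ T0W, m * u * m⁻¹ ∈ T0W := fun u hu => d.mem_im.1 (by
    rw [map_mul, map_mul, map_inv]
    exact (Subgroup.mem_normalizer_iff.1 h1 _).1 (d.mem_im.2 hu))
  have hmT : m ∈ TW := norm_T0 m (h2 _ misc.1) (h2 _ misc.2.2.1) (h2 _ misc.2.1) (h2 _ misc.2.2.2.1)
  obtain ⟨k, hk⟩ := d.T.isPGroup' ⟨(n : G) ^ 4, hm ▸ d.mem_TG.2 hmT⟩
  refine ⟨2 + k, Subtype.ext ?_⟩
  have h3 : ((n : G) ^ 4) ^ 2 ^ k = 1 := congrArg Subtype.val hk
  rw [SubgroupClass.coe_pow, OneMemClass.coe_one, pow_add, pow_mul]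
  exact h3

/-- `N(T) = T`. -/
theorem normalizer_T : Subgroup.normalizer ((d.T : Subgroup G) : Set G) = (d.T : Subgroup G) := by
  haveI : Fact (Nat.Prime 2) := ⟨Nat.prime_two⟩
  refine d.T.3 ?_ Subgroup.le_normalizer
  intro n
  have hle : ∀ i, cj (n : G) (d.im (four i)) ≤ (d.T : Subgroup G) := by
    intro i
    refine le_trans (Subgroup.map_mono (Subgroup.map_mono fun u hu =>
      (subset_TW u).2.2.2.2.2 (four_le i hu))) ?_
    rw [← d.hT]
    exact (cj_eq_iff.2 n.2).le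
  obtain ⟨m, hm⟩ := d.pow_four_mem hle
  have h1 : d.ι m ∈ Subgroup.normalizer ((d.T : Subgroup G) : Set G) := hm ▸ pow_mem n.2 4
  have h2 : ∀ u ∈ TW, m * u * m⁻¹ ∈ TW := fun u hu => d.mem_TG.1 (by
    rw [map_mul, map_mul, map_inv]
    exact (Subgroup.mem_normalizer_iff.1 h1 _).1 (d.mem_TG.2 hu))
  have hT0 : ∀ {u}, u ∈ T0W → u ∈ TW := fun {u} hu => (subset_TW u).2.2.2.2.2 hu
  have hmT : m ∈ TW := norm_T m (h2 _ (hT0 misc.1)) (h2 _ (hT0 misc.2.2.1)) (h2 _ (hT0 misc.2.1))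
    (h2 _ (hT0 misc.2.2.2.1)) (h2 _ misc.2.2.2.2.1)
  obtain ⟨k, hk⟩ := d.T.isPGroup' ⟨(n : G) ^ 4, hm ▸ d.mem_TG.2 hmT⟩
  refine ⟨2 + k, Subtype.ext ?_⟩
  have h3 : ((n : G) ^ 4) ^ 2 ^ k = 1 := congrArg Subtype.val hk
  rw [SubgroupClass.coe_pow, OneMemClass.coe_one, pow_add, pow_mul]
  exact h3

theorem card_T : Nat.card (d.T : Subgroup G) = 128 := by
  rw [d.hT, card_im, card_sub, card_facts.1]

theorem conj_into_T {g : G} {X : Subgroup G} (h : cj g (d.T : Subgroup G) ≤ Subgroup.normalizer (X : Set G))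
    (hX : (d.T : Subgroup G) ≤ Subgroup.normalizer (X : Set G)) :
    ∃ k ∈ Subgroup.normalizer (X : Set G), k * g ∈ (d.T : Subgroup G) := by
  haveI : Fact (Nat.Prime 2) := ⟨Nat.prime_two⟩
  have h' : ((g • d.T : Sylow 2 G) : Subgroup G) ≤ Subgroup.normalizer (X : Set G) := by
    rw [Sylow.coe_subgroup_smul]; exact h
  obtain ⟨k, hk⟩ := MulAction.exists_smul_eq (Subgroup.normalizer (X : Set G))
    ((g • d.T : Sylow 2 G).subtype h') (d.T.subtype hX)
  rw [Sylow.smul_subtype] at hk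
  have h2 : (k : G) • (g • d.T) = d.T := Sylow.subtype_injective hk
  refine ⟨k, k.2, ?_⟩
  rw [← d.normalizer_T]
  exact Sylow.smul_eq_iff_mem_normalizer.1 (by rw [mul_smul]; exact h2)

/-- `A` and `B` are weakly closed. -/
theorem weakly_closed {i : Fin 4} (hi : i = 0 ∨ i = 1) :
    Cfsg.IsWeaklyClosed (d.im (four i)) (d.T : Subgroup G) := by
  haveI : Fact (Nat.Prime 2) := ⟨Nat.prime_two⟩
  have hleT : ∀ j, d.im (four j) ≤ (d.T : Subgroup G) := fun j => by
    rw [d.hT]; exact Subgroup.map_mono fun u hu => (subset_TW u).2.2.2.2.2 (four_le j hu)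
  have hnorm : (d.T : Subgroup G) ≤ Subgroup.normalizer (d.im (four i) : Set G) := by
    rcases hi with rfl | rfl
    · exact d.T_le_NA
    · exact d.T_le_NB
  refine ⟨hleT i, fun g hg => ?_⟩
  obtain ⟨j, hj⟩ := d.cj_four hg
  have hconj : cj g (d.T : Subgroup G) ≤ Subgroup.normalizer (d.im (four j) : Set G) := by
    rw [← hj]
    exact (Subgroup.map_mono hnorm).trans (Subgroup.le_normalizer_map _)
  by_cases hjn : j = 0 ∨ j = 1
  · have hTj : (d.T : Subgroup G) ≤ Subgroup.normalizer (d.im (four j) : Set G) := by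
      rcases hjn with rfl | rfl
      · exact d.T_le_NA
      · exact d.T_le_NB
    obtain ⟨k, hk, hkg⟩ := d.conj_into_T hconj hTj
    show cj g _ = _
    calc cj g (d.im (four i)) = cj k⁻¹ (cj (k * g) (d.im (four i))) := by
          rw [cj_cj, inv_mul_cancel_left]
      _ = cj k⁻¹ (d.im (four i)) := by rw [cj_eq_iff.2 (hnorm hkg)]
      _ = cj k⁻¹ (cj (k * g) (d.im (four i))) := by rw [cj_eq_iff.2 (hnorm hkg)]
      _ = d.im (four j) := by rw [cj_cj, inv_mul_cancel_left, hj]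
      _ = d.im (four i) := by
        have h1 : cj k (d.im (four j)) = d.im (four j) := cj_eq_iff.2 hk
        rw [← hj, cj_cj, cj_eq_iff.2 (hnorm hkg)] at h1
        rw [h1, ← hj]
  · exfalso
    push Not at hjn
    set N := Subgroup.normalizer (d.im (four j) : Set G)
    have hT0N : d.im T0W ≤ N := fun x hx => by
      obtain ⟨t, ht, rfl⟩ := hx
      refine Baumann.mem_normalizer_of_forall ?_
      rintro _ ⟨u, hu, rfl⟩
      refine ⟨t * u * t⁻¹, ?_, by simp⟩
      have hu' : u ∈ TL := mem_TL ((subset_TW u).2.2.2.2.2 (four_le j hu))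
      have ht' : t ∈ TL := mem_TL ((subset_TW t).2.2.2.2.2 ht)
      fin_cases j
      · exact absurd rfl hjn.1
      · exact absurd rfl hjn.2
      · exact (four_facts t ht' u hu').2.2.2.2.1 ht hu
      · exact (four_facts t ht' u hu').2.2.2.2.2 ht hu
    have hgN : ((g • d.T : Sylow 2 G) : Subgroup G) ≤ N := by
      rw [Sylow.coe_subgroup_smul]; exact hconj
    have hp0 : IsPGroup 2 ((d.im T0W).subgroupOf N) :=
      ((isPGroup_sub (k := 6) card_facts.2.1).map d.ι).comap_subtype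
    obtain ⟨S, hS⟩ := hp0.exists_le_sylow
    set S' := (S : Subgroup N).map N.subtype
    have hcardS : Nat.card S' = 128 := by
      rw [Subgroup.card_map_of_injective N.subtype_injective,
        Nat.card_congr (Sylow.equiv S ((g • d.T : Sylow 2 G).subtype hgN)).toEquiv, Sylow.coe_subtype,
        Nat.card_congr (Subgroup.subgroupOfEquivOfLe hgN).toEquiv, Sylow.coe_subgroup_smul]
      exact (Subgroup.card_map_of_injective (MulAut.conj g).injective).trans d.card_T
    have hT0S : d.im T0W ≤ S' := fun x hx => ⟨⟨x, hT0N hx⟩, hS hx, rfl⟩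
    have hidx : ((d.im T0W).subgroupOf S').index = 2 := by
      have h1 := Subgroup.card_mul_index ((d.im T0W).subgroupOf S')
      rw [Nat.card_congr (Subgroup.subgroupOfEquivOfLe hT0S).toEquiv, card_im, card_sub, card_facts.2.1,
        hcardS] at h1
      omega
    haveI := Subgroup.normal_of_index_eq_two hidx
    have hS'T : S' ≤ (d.T : Subgroup G) := by
      rw [← d.normalizer_T0]
      exact (Subgroup.normal_subgroupOf_iff_le_normalizer hT0S).1 inferInstance
    have hST : S' = (d.T : Subgroup G) := Subgroup.eq_of_le_of_card_ge hS'T (by rw [hcardS, d.card_T])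
    have hTN : (d.T : Subgroup G) ≤ N := hST ▸ Subgroup.map_subtype_le _
    have hsw : ∀ u, u ∈ four j → sw * u * sw⁻¹ ∈ four j := fun u hu => d.mem_im.1 (by
      rw [map_mul, map_mul, map_inv]
      exact (Subgroup.mem_normalizer_iff.1 (hTN (d.mem_TG.2 misc.2.2.2.2.1)) _).1 (d.mem_im.2 hu))
    obtain ⟨-, -, -, -, -, -, -, -, -, -, -, -, -, -, hE, hE', hF, hF'⟩ := misc
    fin_cases j
    · exact absurd rfl hjn.1
    · exact absurd rfl hjn.2
    · exact hE (hsw _ hE')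
    · exact hF (hsw _ hF')

theorem wc_A : Cfsg.IsWeaklyClosed (d.im AW) (d.T : Subgroup G) := d.weakly_closed (i := 0) (Or.inl rfl)

theorem wc_B : Cfsg.IsWeaklyClosed (d.im BW) (d.T : Subgroup G) := d.weakly_closed (i := 1) (Or.inr rfl)

theorem fusion_A {u v : W} (hu : u ∈ AW) (hv : v ∈ AW) (h : IsConj (d.ι u) (d.ι v)) :
    ∃ m : W, m * u * m⁻¹ = v := by
  haveI : Fact (Nat.Prime 2) := ⟨Nat.prime_two⟩
  obtain ⟨g, hg⟩ := isConj_iff.1 h
  have hc : ∀ w ∈ AW, d.ι w ∈ Subgroup.centralizer (d.im AW : Set G) := fun w hw =>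
    Subgroup.mem_centralizer_iff.2 fun x hx => (d.four_props 0).2.1 x hx _ (d.mem_im.2 hw)
  obtain ⟨k, hk, hke⟩ := Cfsg.Agent.S1243.result d.T (d.im AW) d.wc_A (d.ι u) g (hc u hu) (hg ▸ hc v hv)
  rw [d.hN] at hk
  obtain ⟨m, rfl⟩ := hk
  refine ⟨m, d.inj ?_⟩
  rw [map_mul, map_mul, map_inv, hke, hg]

theorem fusion_B {u v : W} (hu : u ∈ BW) (hv : v ∈ BW) (h : IsConj (d.ι u) (d.ι v)) :
    ∃ k ∈ Subgroup.normalizer (d.im BW : Set G), k * d.ι u * k⁻¹ = d.ι v := by
  haveI : Fact (Nat.Prime 2) := ⟨Nat.prime_two⟩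
  obtain ⟨g, hg⟩ := isConj_iff.1 h
  have hc : ∀ w ∈ BW, d.ι w ∈ Subgroup.centralizer (d.im BW : Set G) := fun w hw =>
    Subgroup.mem_centralizer_iff.2 fun x hx => (d.four_props 1).2.1 x hx _ (d.mem_im.2 hw)
  obtain ⟨k, hk, hke⟩ := Cfsg.Agent.S1243.result d.T (d.im BW) d.wc_B (d.ι u) g (hc u hu) (hg ▸ hc v hv)
  exact ⟨k, hk, hke.trans hg⟩

theorem zz_not_conj_z1 : ¬ IsConj (d.ι zz) (d.ι z1) := fun h => by
  obtain ⟨m, hm⟩ := d.fusion_A misc_B.2.2.2.2.2.1 misc.2.2.2.2.2.2.2.2.1 h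
  exact zz_not_z1 m hm

end Data

end Cfsg.Agent.Lib.WrS4QT
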