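import Cfsg.Agent.Lib.WrS4QT.Basic

/-!
# The centralisers of `B`, of `Z₀` and of `z₁`
-/

set_option autoImplicit false
set_option linter.style.haveILetI false
set_option linter.unusedSectionVars false
set_option maxRecDepth 4000

open Cfsg

namespace Cfsg.Agent.Lib.WrS4QT

open W

namespace Data

variable {G : Type*} [Group G] [Finite G] (d : Data G)

/-- `N(U)` has characteristic two when `T` normalises `U`. -/
theorem char2 {U : Subgroup G} (hp : IsPGroup 2 U) (hU : U ≠ ⊥)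
    (hT : (d.T : Subgroup G) ≤ Subgroup.normalizer (U : Set G)) :
    IsOfCharacteristicTwo (Subgroup.normalizer (U : Set G)) :=
  d.hQ.2.2 _ ⟨U, hp, hU, rfl⟩ ⟨d.T, hT⟩

theorem im_ne {X : Subgroup W} {u : W} (hu : u ∈ X) (h1 : u ≠ 1) : d.im X ≠ ⊥ := fun h =>
  h1 (d.inj ((Subgroup.mem_bot.1 (h ▸ d.mem_im.2 hu)).trans (map_one d.ι).symm))

theorem isPGroup_T0 : IsPGroup 2 (d.im T0W) := (isPGroup_sub (k := 6) card_facts.2.1).map d.ι

theorem im_T0_le : d.im T0W ≤ (d.T : Subgroup G) := by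
  rw [d.hT]; exact Subgroup.map_mono fun u hu => (subset_TW u).2.2.2.2.2 hu

theorem normalizer_cent_le {X g : Subgroup G} (h : g ≤ Subgroup.normalizer (X : Set G)) :
    g ≤ Subgroup.normalizer (Subgroup.centralizer (X : Set G) : Set G) := fun a ha => by
  refine Baumann.mem_normalizer_of_forall fun c hc => Subgroup.mem_centralizer_iff.2 fun u hu => ?_
  have h1 : a⁻¹ * u * a ∈ X := (Subgroup.mem_normalizer_iff''.1 (h ha) u).1 hu
  have h2 := Subgroup.mem_centralizer_iff.1 hc _ h1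
  calc u * (a * c * a⁻¹) = a * (a⁻¹ * u * a * c) * a⁻¹ := by group
    _ = _ := by rw [h2]; group

/-- A Sylow subgroup of a centraliser normalised by `T`. -/
theorem exists_sylow_cent {X : Subgroup G} (hT : (d.T : Subgroup G) ≤ Subgroup.normalizer (X : Set G)) :
    ∃ S : Sylow 2 (Subgroup.centralizer (X : Set G)),
      (S : Subgroup (Subgroup.centralizer (X : Set G))).map (Subgroup.centralizer (X : Set G)).subtype =
        (d.T : Subgroup G) ⊓ Subgroup.centralizer (X : Set G) := by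
  haveI : Fact (Nat.Prime 2) := ⟨Nat.prime_two⟩
  set C := Subgroup.centralizer (X : Set G)
  set H := Subgroup.normalizer (X : Set G)
  have hp : IsPGroup 2 (((d.T : Subgroup G) ⊓ C).subgroupOf C) :=
    (d.T.isPGroup'.to_le inf_le_left).comap_subtype
  obtain ⟨S, hS⟩ := hp.exists_le_sylow
  refine ⟨S, (Subgroup.eq_of_le_of_card_ge (show (d.T : Subgroup G) ⊓ C ≤ (S : Subgroup C).map C.subtype from
    fun x hx => ⟨⟨x, hx.2⟩, hS (show (x : G) ∈ (d.T : Subgroup G) ⊓ C from hx), rfl⟩) ?_).symm⟩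
  set S' := (S : Subgroup C).map C.subtype
  have hCH : C ≤ H := Subgroup.centralizer_le_normalizer _
  have hp' : IsPGroup 2 (S'.subgroupOf H) := (S.isPGroup'.map C.subtype).comap_subtype
  obtain ⟨R, hR⟩ := hp'.exists_le_sylow
  obtain ⟨h, hh⟩ := MulAction.exists_smul_eq H R (d.T.subtype hT)
  have hle : cj (h : G) S' ≤ (d.T : Subgroup G) ⊓ C := by
    rintro _ ⟨x, hx, rfl⟩
    have hxC : x ∈ C := Subgroup.map_subtype_le _ hx
    refine ⟨?_, (Subgroup.mem_normalizer_iff.1 (normalizer_cent_le le_rfl h.2) x).1 hxC⟩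
    have h1 : h * ⟨x, hCH hxC⟩ * h⁻¹ ∈ ((h • R : Sylow 2 H) : Subgroup H) := by
      rw [Sylow.coe_subgroup_smul]
      exact Subgroup.smul_mem_pointwise_smul _ (MulAut.conj h) _ (hR hx)
    rw [hh] at h1
    exact h1
  have h2 := Subgroup.card_le_of_le hle
  rwa [Subgroup.card_map_of_injective (MulAut.conj (h : G)).injective] at h2

theorem T_inf_CB : (d.T : Subgroup G) ⊓ Subgroup.centralizer (d.im BW : Set G) = d.im BW := by
  refine le_antisymm ?_ (le_inf ?_ ?_)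
  · rintro g ⟨hg, hc⟩
    obtain ⟨t, ht, rfl⟩ := d.exists_of_T hg
    have key : ∀ w ∈ BW, t * w = w * t := fun w hw => d.inj (by
      rw [map_mul, map_mul]; exact (Subgroup.mem_centralizer_iff.1 hc _ (d.mem_im.2 hw)).symm)
    exact d.mem_im.2 ((cent_facts t (mem_TL ht)).1 (key _ misc_B.1) (key _ misc_B.2.1) (key _ misc_B.2.2.1)
      (key _ misc_B.2.2.2.1))
  · exact (Subgroup.map_mono fun u hu => (subset_TW u).1 hu).trans d.im_T0_le
  · exact fun x hx => Subgroup.mem_centralizer_iff.2 fun y hy => (d.four_props 1).2.1 y hy x hx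

/-- `C(B) = B`. -/
theorem cent_B : Subgroup.centralizer (d.im BW : Set G) = d.im BW := by
  haveI : Fact (Nat.Prime 2) := ⟨Nat.prime_two⟩
  set C := Subgroup.centralizer (d.im BW : Set G)
  obtain ⟨S, hS⟩ := d.exists_sylow_cent d.T_le_NB
  rw [d.T_inf_CB] at hS
  obtain ⟨K, -, hK, hmem⟩ := exists_odd_part S fun c _ => Subgroup.mem_centralizer_iff.2 fun s hs => by
    have h1 : (s : G) ∈ d.im BW := hS.le ⟨s, hs, rfl⟩
    exact Subtype.ext (Subgroup.mem_centralizer_iff.1 c.2 _ h1)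
  have hH : IsOfCharacteristicTwo (Subgroup.normalizer (d.im BW : Set G)) :=
    d.char2 ((isPGroup_sub (k := 4) card_facts.2.2.2.1).map d.ι) (d.im_ne misc_B.2.2.1 misc.2.2.2.2.2.2.2.2.2.2.2.2.2.1)
      d.T_le_NB
  have hp : IsPGroup 2 C := isPGroup_of_odd_part hH (Subgroup.centralizer_le_normalizer _)
    (normalizer_cent_le le_rfl) hK hmem
  refine le_antisymm ?_ (fun x hx => Subgroup.mem_centralizer_iff.2 fun y hy => (d.four_props 1).2.1 y hy x hx)
  have hTC : C ≤ (d.T : Subgroup G) := le_sup_right.trans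
    (d.T.3 (d.T.isPGroup'.to_sup_of_normal_right' hp (normalizer_cent_le d.T_le_NB)) le_sup_left).le
  exact (le_inf hTC le_rfl).trans d.T_inf_CB.le

theorem T_inf_CZ0 : (d.T : Subgroup G) ⊓ Subgroup.centralizer (d.im Z0W : Set G) = d.im T0W := by
  refine le_antisymm ?_ (le_inf d.im_T0_le ?_)
  · rintro g ⟨hg, hc⟩
    obtain ⟨t, ht, rfl⟩ := d.exists_of_T hg
    exact d.mem_im.2 ((cent_facts t (mem_TL ht)).2.1 (d.inj (by
      rw [map_mul, map_mul]
      exact (Subgroup.mem_centralizer_iff.1 hc _ (d.mem_im.2 misc.2.2.2.2.2.1)).symm)))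
  · rintro _ ⟨u, hu, rfl⟩
    refine Subgroup.mem_centralizer_iff.2 ?_
    rintro _ ⟨v, hv, rfl⟩
    rw [← map_mul, ← map_mul]
    congr 1
    exact ((four_facts u (mem_TL ((subset_TW u).2.2.2.2.2 hu)) v (mem_TL ((subset_TW v).2.2.2.2.2
      ((subset_TW v).1 ((subset_TW v).2.2.2.2.1 hv).1)))).2.2.2.1 hu hv).symm

/-- `C(Z₀) = T₀`. -/
theorem cent_Z0 : Subgroup.centralizer (d.im Z0W : Set G) = d.im T0W := by
  haveI : Fact (Nat.Prime 2) := ⟨Nat.prime_two⟩
  set C := Subgroup.centralizer (d.im Z0W : Set G)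
  obtain ⟨S, hS⟩ := d.exists_sylow_cent d.T_le_NZ0
  rw [d.T_inf_CZ0] at hS
  have hZS : (d.im Z0W).subgroupOf C ≤ (S : Subgroup C) := fun x hx => by
    obtain ⟨y, hy, hye⟩ : (x : G) ∈ (S : Subgroup C).map C.subtype := by
      rw [hS]
      exact Subgroup.map_mono (fun u hu => (subset_TW u).1 ((subset_TW u).2.2.2.2.1 hu).1) hx
    rwa [← Subtype.ext hye]
  set Z := (d.im Z0W).subgroupOf C
  have hZc : ∀ z ∈ Z, ∀ x : C, x * z = z * x := fun z hz x =>
    Subtype.ext (Subgroup.mem_centralizer_iff.1 x.2 _ hz).symm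
  haveI : Z.Normal := ⟨fun z hz x => by rw [hZc z hz x, mul_inv_cancel_right]; exact hz⟩
  set π := QuotientGroup.mk' Z
  have hπ : Function.Surjective π := QuotientGroup.mk'_surjective Z
  have hpre : ∀ y : C, π y ∈ (S : Subgroup C).map π → y ∈ (S : Subgroup C) := by
    rintro y ⟨s, hs, hsy⟩
    have h1 : s⁻¹ * y ∈ Z := QuotientGroup.eq.1 hsy
    have := mul_mem hs (hZS h1)
    rwa [mul_inv_cancel_left] at this
  obtain ⟨K, -, hK, hmem⟩ := exists_odd_part (S.mapSurjective hπ) (by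
    intro q hq
    obtain ⟨x, rfl⟩ := hπ q
    rw [Sylow.coe_mapSurjective] at hq ⊢
    have hxT : (x : G) ∈ Subgroup.normalizer (d.im T0W : Set G) := by
      refine Baumann.mem_normalizer_of_forall fun y hy => ?_
      rw [← hS] at hy ⊢
      obtain ⟨y, hy, rfl⟩ := hy
      refine ⟨x * y * x⁻¹, hpre _ ?_, rfl⟩
      rw [map_mul, map_mul, map_inv]
      exact (Subgroup.mem_normalizer_iff.1 hq _).1 ⟨y, hy, rfl⟩
    rw [d.normalizer_T0] at hxT
    have hxS : (x : G) ∈ d.im T0W := d.T_inf_CZ0.le ⟨hxT, x.2⟩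
    refine Subgroup.mem_centralizer_iff.2 ?_
    rintro _ ⟨y, hy, rfl⟩
    refine commutatorElement_eq_one_iff_mul_comm.1 ?_
    rw [← map_commutatorElement, QuotientGroup.mk'_apply, QuotientGroup.eq_one_iff]
    have hyS : (y : G) ∈ d.im T0W := hS.le ⟨y, hy, rfl⟩
    obtain ⟨u, hu, hue⟩ := hxS
    obtain ⟨v, hv, hve⟩ := hyS
    refine ⟨v * u * v⁻¹ * u⁻¹, (four_facts v (mem_TL ((subset_TW v).2.2.2.2.2 hv)) u
      (mem_TL ((subset_TW u).2.2.2.2.2 hu))).2.2.1 hv hu, ?_⟩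
    simp [commutatorElement_def, hue, hve])
  set K1 := K.comap π
  set Z' := Z.subgroupOf K1
  have hZK : Z ≤ K1 := fun z hz => by
    show π z ∈ K
    rw [show π z = 1 from (QuotientGroup.eq_one_iff z).2 hz]
    exact one_mem K
  have hZ'p : IsPGroup 2 Z' :=
    ((((isPGroup_sub (k := 6) card_facts.2.1).to_le
      (fun u hu => (subset_TW u).1 ((subset_TW u).2.2.2.2.1 hu).1)).map d.ι).comap_subtype).comap_subtype
  have hidx : ¬ 2 ∣ Z'.index := by
    let φ : K1 →* K := (π.comp K1.subtype).codRestrict K fun x => x.2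
    have hker : φ.ker = Z' := by
      ext x
      rw [MonoidHom.mem_ker, Subgroup.mem_subgroupOf, ← QuotientGroup.eq_one_iff]
      exact Subtype.ext_iff
    rw [← hker, Subgroup.index_ker]
    exact fun h => Nat.not_even_iff_odd.2 (hK.of_dvd_nat (Subgroup.card_subgroup_dvd_card _))
      (even_iff_two_dvd.2 h)
  obtain ⟨K2, -, hK2, hmem2⟩ := exists_odd_part (hZ'p.toSylow hidx) (fun c _ =>
    Subgroup.mem_centralizer_iff.2 fun z hz => Subtype.ext (hZc _ hz (c : C)).symm)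
  have hH : IsOfCharacteristicTwo (Subgroup.normalizer (d.im Z0W : Set G)) :=
    d.char2 (((isPGroup_sub (k := 6) card_facts.2.1).to_le
      (fun u hu => (subset_TW u).1 ((subset_TW u).2.2.2.2.1 hu).1)).map d.ι)
      (d.im_ne misc.2.2.2.2.2.1 misc.2.2.2.2.2.2.2.2.2.2.2.2.2.1) d.T_le_NZ0
  have hp : IsPGroup 2 C := isPGroup_of_odd_part hH (Subgroup.centralizer_le_normalizer _)
    (normalizer_cent_le le_rfl) (K := K2.map K1.subtype)
    (by rwa [Subgroup.card_map_of_injective K1.subtype_injective]) (fun x hx => by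
      have hxK1 : x ∈ K1 := hmem _ (Nat.Coprime.coprime_dvd_left (orderOf_map_dvd π x) hx)
      exact ⟨⟨x, hxK1⟩, hmem2 _ (by rw [Subgroup.orderOf_mk]; exact hx), rfl⟩)
  refine le_antisymm ?_ (fun x hx => (d.T_inf_CZ0.ge hx).2)
  have hTC : C ≤ (d.T : Subgroup G) := le_sup_right.trans
    (d.T.3 (d.T.isPGroup'.to_sup_of_normal_right' hp (normalizer_cent_le d.T_le_NZ0)) le_sup_left).le
  exact (le_inf hTC le_rfl).trans d.T_inf_CZ0.le

/-- `N(Z₀) = T`. -/
theorem normalizer_Z0 : Subgroup.normalizer (d.im Z0W : Set G) = (d.T : Subgroup G) := by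
  refine le_antisymm ?_ d.T_le_NZ0
  have := normalizer_cent_le (g := Subgroup.normalizer (d.im Z0W : Set G)) (X := d.im Z0W) le_rfl
  rwa [d.cent_Z0, d.normalizer_T0] at this

theorem cent_pair {g : G} (h1 : g * d.ι z1 = d.ι z1 * g) (h2 : g * d.ι z2 = d.ι z2 * g) :
    g ∈ d.im T0W := by
  rw [← d.cent_Z0]
  refine Subgroup.mem_centralizer_iff.2 ?_
  rintro _ ⟨u, hu, rfl⟩
  rcases (by decide +kernel : ∀ u : W, u ∈ Z0W → u = 1 ∨ u = z1 ∨ u = z2 ∨ u = z1 * z2) u hu with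
    rfl | rfl | rfl | rfl
  · rw [map_one, one_mul, mul_one]
  · exact h1.symm
  · exact h2.symm
  · rw [map_mul, mul_assoc, ← h2, ← mul_assoc, ← h1, mul_assoc]

theorem mem_T_of_pair {g : G}
    (h : (g * d.ι z1 * g⁻¹ = d.ι z1 ∧ g * d.ι z2 * g⁻¹ = d.ι z2) ∨
      (g * d.ι z1 * g⁻¹ = d.ι z2 ∧ g * d.ι z2 * g⁻¹ = d.ι z1)) : g ∈ (d.T : Subgroup G) := by
  rcases h with ⟨h1, h2⟩ | ⟨h1, h2⟩
  · exact d.im_T0_le (d.cent_pair (mul_inv_eq_iff_eq_mul.1 h1) (mul_inv_eq_iff_eq_mul.1 h2))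
  · have hs : d.ι sw ∈ (d.T : Subgroup G) := d.mem_TG.2 misc.2.2.2.2.1
    have e1 : sw * z2 * sw⁻¹ = z1 ∧ sw * z1 * sw⁻¹ = z2 := by decide +kernel
    have h3 : d.ι sw * g ∈ (d.T : Subgroup G) := d.im_T0_le (d.cent_pair
      (mul_inv_eq_iff_eq_mul.1 (by
        rw [show d.ι sw * g * d.ι z1 * (d.ι sw * g)⁻¹ = d.ι sw * (g * d.ι z1 * g⁻¹) * (d.ι sw)⁻¹ by group,
          h1, ← map_inv, ← map_mul, ← map_mul, e1.1]))
      (mul_inv_eq_iff_eq_mul.1 (by
        rw [show d.ι sw * g * d.ι z2 * (d.ι sw * g)⁻¹ = d.ι sw * (g * d.ι z2 * g⁻¹) * (d.ι sw)⁻¹ by group,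
          h2, ← map_inv, ← map_mul, ← map_mul, e1.2])))
    have := mul_mem (inv_mem hs) h3
    rwa [inv_mul_cancel_left] at this

theorem T0_le_cent : d.im T0W ≤ Subgroup.centralizer ({d.ι z1} : Set G) := by
  rintro _ ⟨u, hu, rfl⟩
  refine Subgroup.mem_centralizer_singleton_iff.2 ?_
  rw [← map_mul, ← map_mul, ((cent_facts u (mem_TL ((subset_TW u).2.2.2.2.2 hu))).2.2.1 hu).1]

theorem T0_max {S : Subgroup G} (hS : IsPGroup 2 S) (hSC : S ≤ Subgroup.centralizer ({d.ι z1} : Set G))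
    (hle : d.im T0W ≤ S) : S = d.im T0W := by
  haveI : Fact (Nat.Prime 2) := ⟨Nat.prime_two⟩
  by_contra hne
  have hlt : (d.im T0W).subgroupOf S < ⊤ := by
    rw [lt_top_iff_ne_top, Ne, Subgroup.subgroupOf_eq_top]
    exact fun h => hne (le_antisymm h hle)
  haveI : Group.IsNilpotent ↥S := hS.isNilpotent
  obtain ⟨a, han, ha⟩ := SetLike.exists_of_lt
    (Group.normalizerCondition_of_isNilpotent ((d.im T0W).subgroupOf S) hlt)
  have han' : (a : G) ∈ Subgroup.normalizer (d.im T0W : Set G) :=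
    Baumann.mem_normalizer_of_forall fun x hx => (Subgroup.mem_normalizer_iff.1 han ⟨x, hle hx⟩).1 hx
  rw [d.normalizer_T0] at han'
  obtain ⟨t, ht, hte⟩ := d.exists_of_T han'
  refine ha ?_
  show (a : G) ∈ d.im T0W
  rw [← hte]
  refine d.mem_im.2 ((cent_facts t (mem_TL ht)).2.1 (d.inj ?_))
  rw [map_mul, map_mul, hte]
  exact Subgroup.mem_centralizer_singleton_iff.1 (hSC a.2)

theorem exists_sylow_T0 {K : Subgroup G} (hK : d.im T0W ≤ K)
    (hKC : K ≤ Subgroup.centralizer ({d.ι z1} : Set G)) :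
    ∃ S : Sylow 2 K, (S : Subgroup K).map K.subtype = d.im T0W := by
  obtain ⟨R0, hR0⟩ := (d.isPGroup_T0.comap_subtype (K := K)).exists_le_sylow
  exact ⟨R0, d.T0_max (R0.isPGroup'.map _) ((Subgroup.map_subtype_le _).trans hKC)
    fun x hx => ⟨⟨x, hK hx⟩, hR0 hx, rfl⟩⟩

theorem into_T0_within {K : Subgroup G} (hK : d.im T0W ≤ K)
    (hKC : K ≤ Subgroup.centralizer ({d.ι z1} : Set G)) {U : Subgroup G} (hU : IsPGroup 2 U) (hUK : U ≤ K) :
    ∃ c ∈ K, cj c U ≤ d.im T0W := by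
  haveI : Fact (Nat.Prime 2) := ⟨Nat.prime_two⟩
  obtain ⟨R, hR⟩ := (hU.comap_subtype (K := K)).exists_le_sylow
  obtain ⟨R0, hR0'⟩ := d.exists_sylow_T0 hK hKC
  obtain ⟨c, hc⟩ := MulAction.exists_smul_eq K R R0
  refine ⟨c, c.2, ?_⟩
  rintro _ ⟨x, hx, rfl⟩
  rw [← hR0']
  refine ⟨c * ⟨x, hUK hx⟩ * c⁻¹, ?_, rfl⟩
  rw [← hc, Sylow.coe_subgroup_smul]
  exact Subgroup.smul_mem_pointwise_smul _ (MulAut.conj c) _ (hR hx)

/-- `T₀` is a Sylow subgroup of `C(z₁)`: its 2-subgroups go into `T₀`. -/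
theorem cent_z1_into_T0 {U : Subgroup G} (hU : IsPGroup 2 U)
    (hUC : U ≤ Subgroup.centralizer ({d.ι z1} : Set G)) :
    ∃ c ∈ Subgroup.centralizer ({d.ι z1} : Set G), cj c U ≤ d.im T0W :=
  d.into_T0_within d.T0_le_cent le_rfl hU hUC

end Data

end Cfsg.Agent.Lib.WrS4QT
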