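import Cfsg.Prelude.Def_QuasithinSetup
import Cfsg.Agent.Lib.QTSetup.Char2
import Mathlib.GroupTheory.Transfer

/-!
# Two-locals of characteristic two

A normal subgroup with a normal 2-complement inside a group of characteristic two is a 2-group.
-/

set_option autoImplicit false
set_option linter.style.haveILetI false

open Cfsg
open scoped commutatorElement

namespace Cfsg.Agent.Lib.WrS4QT

open Cfsg.Agent.Lib

variable {G : Type*} [Group G] [Finite G]

omit [Finite G] in
theorem orderOf_conjugate (g x : G) : orderOf (g * x * g⁻¹) = orderOf x := by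
  exact orderOf_injective (MulAut.conj g).toMonoidHom (MulAut.conj g).injective x

/-- A central Sylow 2-subgroup of its normaliser gives a normal subgroup of odd order holding all
elements of odd order. -/
theorem exists_odd_part {Γ : Type*} [Group Γ] [Finite Γ] (S : Sylow 2 Γ)
    (h : Subgroup.normalizer ((S : Subgroup Γ) : Set Γ) ≤ Subgroup.centralizer ((S : Subgroup Γ) : Set Γ)) :
    ∃ K : Subgroup Γ, K.Normal ∧ Odd (Nat.card K) ∧ ∀ x, (orderOf x).Coprime 2 → x ∈ K := by
  haveI : Fact (Nat.Prime 2) := ⟨Nat.prime_two⟩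
  have hc := MonoidHom.ker_transferSylow_isComplement' S h
  set K := (MonoidHom.transferSylow S h).ker
  have hi : (S : Subgroup Γ).index = Nat.card K := hc.index_eq_card
  have hK : Odd (Nat.card K) := by
    rw [← hi]
    exact Nat.not_even_iff_odd.1 fun he => S.not_dvd_index (even_iff_two_dvd.1 he)
  refine ⟨K, inferInstance, hK, fun x hx => ?_⟩
  rw [← QuotientGroup.eq_one_iff x, ← orderOf_eq_one_iff]
  obtain ⟨k, hk⟩ := IsPGroup.iff_card.1 S.isPGroup'
  have hq : orderOf (x : Γ ⧸ K) ∣ 2 ^ k := by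
    rw [← hk, ← hc.symm.index_eq_card, Subgroup.index]
    exact orderOf_dvd_natCard _
  exact Nat.eq_one_of_dvd_coprimes (hx.pow_right k)
    (orderOf_map_dvd (QuotientGroup.mk' K) x) hq

/-- In a group of characteristic two a normal subgroup of odd order is trivial. -/
theorem odd_normal_bot {H O : Subgroup G} (hH : IsOfCharacteristicTwo H) (hO : O ≤ H)
    (hn : H ≤ Subgroup.normalizer (O : Set G)) (hodd : Odd (Nat.card O)) : O = ⊥ := by
  haveI : Fact (Nat.Prime 2) := ⟨Nat.prime_two⟩
  have hgood : QTSetup.Char2.Good 2 H := QTSetup.Char2.good_iff.2 hH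
  refine (Subgroup.eq_bot_iff_forall _).2 fun x hx => ?_
  have hxo : (orderOf x).Coprime 2 :=
    Nat.coprime_two_right.2 (hodd.of_dvd_nat (Subgroup.orderOf_dvd_natCard O hx))
  refine hgood x (hO hx) hxo (Subgroup.mem_centralizer_iff.2 fun q hq => ?_)
  have hqn := QTSetup.Char2.le_normalizer_coreP (p := 2) H (hO hx)
  have hqH : q ∈ H := QTSetup.Char2.coreP_le H hq
  have h1 : ⁅q, x⁆ ∈ O := by
    rw [commutatorElement_def]
    exact O.mul_mem ((Subgroup.mem_normalizer_iff.1 (hn hqH) _).1 hx) (O.inv_mem hx)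
  have h2 : ⁅q, x⁆ ∈ QTSetup.Char2.coreP 2 H := by
    rw [commutatorElement_def, mul_assoc, mul_assoc, ← mul_assoc x]
    exact Subgroup.mul_mem _ hq ((Subgroup.mem_normalizer_iff.1 hqn _).1 (Subgroup.inv_mem _ hq))
  have h3 := QTSetup.Char2.eq_one_of_coprime (QTSetup.Char2.coreP_isPGroup (p := 2) H) h2
    (Nat.coprime_two_right.2 (hodd.of_dvd_nat (Subgroup.orderOf_dvd_natCard O h1)))
  exact commutatorElement_eq_one_iff_mul_comm.1 h3

/-- A normal subgroup with an odd part is a 2-group. -/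
theorem isPGroup_of_odd_part {H C : Subgroup G} (hH : IsOfCharacteristicTwo H) (hCH : C ≤ H)
    (hn : H ≤ Subgroup.normalizer (C : Set G)) {K : Subgroup C} (hK : Odd (Nat.card K))
    (hmem : ∀ x : C, (orderOf x).Coprime 2 → x ∈ K) : IsPGroup 2 C := by
  haveI : Fact (Nat.Prime 2) := ⟨Nat.prime_two⟩
  have hbot : K.map C.subtype = ⊥ := by
    refine odd_normal_bot hH ((Subgroup.map_subtype_le K).trans hCH) (fun g hg => ?_)
      (by rwa [Subgroup.card_map_of_injective C.subtype_injective])
    have key : ∀ g ∈ H, ∀ x ∈ K.map C.subtype, g * x * g⁻¹ ∈ K.map C.subtype := by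
      rintro g hg _ ⟨x, hx, rfl⟩
      have hgC : g * (x : G) * g⁻¹ ∈ C := (Subgroup.mem_normalizer_iff.1 (hn hg) _).1 x.2
      refine ⟨⟨_, hgC⟩, hmem _ ?_, rfl⟩
      rw [Subgroup.orderOf_mk, orderOf_conjugate, Subgroup.orderOf_coe]
      exact Nat.coprime_two_right.2 (hK.of_dvd_nat (Subgroup.orderOf_dvd_natCard K hx))
    refine Subgroup.mem_normalizer_iff.2 fun x => ⟨key g hg x, fun hx => ?_⟩
    have := key g⁻¹ (H.inv_mem hg) _ hx
    simpa [mul_assoc] using this
  refine Balance.isPGroup_of_forall_coprime fun x hx hxo => ?_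
  have : x ∈ K.map C.subtype :=
    ⟨⟨x, hx⟩, hmem _ (by rw [Subgroup.orderOf_mk]; exact hxo), rfl⟩
  rw [hbot] at this
  exact Subgroup.mem_bot.1 this

end Cfsg.Agent.Lib.WrS4QT
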