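import Cfsg.Agent.Lib.WrS4QT.Sub
import Cfsg.Agent.Lib.WrS4QT.Local
import Cfsg.Agent.Lib.Baumann.Blocks

/-!
# A maximal 2-local subgroup isomorphic to `S₄ ≀ Z₂` gives the setting
-/

set_option autoImplicit false
set_option linter.style.haveILetI false
set_option maxRecDepth 4000

open Cfsg

namespace Cfsg.Agent.Lib.WrS4QT

open W

/-- The setting. -/
structure Data (G : Type*) [Group G] where
  ι : W →* G
  inj : Function.Injective ι
  T : Sylow 2 G
  hT : (T : Subgroup G) = TW.map ι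
  hN : Subgroup.normalizer (AW.map ι : Set G) = ι.range
  hQ : Cfsg.IsQTKE G
  simple : IsSimpleGroup G
  nonab : ¬ IsMulCommutative G

theorem AW_le_TW : AW ≤ TW := fun u hu => ⟨(S4.closed u.a u.a).2.2.2.2.2.2.2.2.2.1 hu.2.1,
  (S4.closed u.b u.b).2.2.2.2.2.2.2.2.2.1 hu.2.2⟩

theorem card_sub (S : Subgroup W) [DecidablePred (· ∈ S)] : Nat.card S = Fintype.card {u : W // u ∈ S} :=
  Nat.card_eq_fintype_card

theorem normal_TW_mul : AW.Normal := by
  have hle : ∀ m : W, ∀ u ∈ AW, m * u * m⁻¹ ∈ AW := by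
    intro m u hu
    rcases A_gen u (mem_TL (AW_le_TW hu)) hu with rfl | ⟨k, -, rfl⟩ | ⟨k, -, l, -, rfl⟩
    · simpa using AW.one_mem
    · have h := (A_normal (m * k)).1
      rwa [mul_inv_rev, ← mul_assoc, mul_assoc m k, mul_assoc m] at h
    · have h := mul_mem (A_normal (m * k)).1 (A_normal (m * l)).1
      rw [show m * (k * z1 * k⁻¹ * (l * z1 * l⁻¹)) * m⁻¹ =
        m * k * z1 * (m * k)⁻¹ * (m * l * z1 * (m * l)⁻¹) by group]
      exact h
  exact ⟨fun u hu m => hle m u hu⟩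

theorem isPGroup_sub {S : Subgroup W} [DecidablePred (· ∈ S)] {k : ℕ}
    (h : Fintype.card {u : W // u ∈ S} = 2 ^ k) : IsPGroup 2 S :=
  IsPGroup.of_card (n := k) (by rw [card_sub, h])

variable {G : Type*} [Group G] [Finite G]

theorem exists_data (hG : ¬ IsMulCommutative G) (hs : IsSimpleGroup G) (hQ : Cfsg.IsQTKE G) (T : Sylow 2 G)
    (M : Subgroup G) (hM : M ∈ Cfsg.maxTwoLocalsContaining (T : Subgroup G))
    (hW : Nonempty (↥M ≃* ↥Cfsg.blockStabilizerS4wr2)) : Nonempty (Data G) := by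
  haveI : Fact (Nat.Prime 2) := ⟨Nat.prime_two⟩
  obtain ⟨e⟩ := hW
  set ι : W →* G := M.subtype.comp (W.toStab.trans e.symm).toMonoidHom
  have hinj : Function.Injective ι := M.subtype_injective.comp (W.toStab.trans e.symm).injective
  have hrange : ι.range = M := by
    refine le_antisymm ?_ fun m hm => ?_
    · rintro _ ⟨u, rfl⟩
      exact ((W.toStab.trans e.symm) u).2
    · obtain ⟨u, hu⟩ := (W.toStab.trans e.symm).surjective ⟨m, hm⟩
      exact ⟨u, congrArg Subtype.val hu⟩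
  obtain ⟨⟨⟨U, hU, hUne, rfl⟩, -⟩, hTM⟩ := hM
  -- the Sylow subgroup of the model
  set P := TW.map ι
  have hcardP : Nat.card P = 2 ^ 7 := by
    rw [Subgroup.card_map_of_injective hinj, card_sub, card_facts.1]; rfl
  obtain ⟨S, hS⟩ := (IsPGroup.of_card hcardP).exists_le_sylow
  have hcardT : Nat.card (T : Subgroup G) ≤ 2 ^ 7 := by
    obtain ⟨k, hk⟩ := IsPGroup.iff_card.1 T.isPGroup'
    have h1 : Nat.card (T : Subgroup G) ∣ 1152 := by
      have h2 := Subgroup.card_dvd_of_le hTM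
      rwa [← hrange, Nat.card_congr (MonoidHom.ofInjective hinj).toEquiv.symm, Nat.card_eq_fintype_card (α := W),
        card_facts.2.2.2.2.2.2] at h2
    rw [hk] at h1 ⊢
    refine Nat.pow_le_pow_right two_pos ?_
    have h3 : Nat.Coprime (2 ^ k) 9 := Nat.Coprime.pow_left k (by norm_num)
    have h4 : 2 ^ k ∣ 2 ^ 7 := Nat.Coprime.dvd_of_dvd_mul_right h3 (by norm_num at h1 ⊢; exact h1)
    exact (Nat.pow_dvd_pow_iff_le_right (by norm_num)).1 h4
  have hSP : P = (S : Subgroup G) := Subgroup.eq_of_le_of_card_ge hS (by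
    rw [hcardP]
    calc Nat.card (S : Subgroup G) = Nat.card (T : Subgroup G) := Nat.card_congr (Sylow.equiv S T).toEquiv
      _ ≤ _ := hcardT)
  -- the 2-group defining the local is the image of `A`
  have hUM : U ≤ ι.range := hrange ▸ Subgroup.le_normalizer
  set U' := U.comap ι
  have hU'n : U'.Normal := ⟨fun u hu m => by
    show ι (m * u * m⁻¹) ∈ U
    rw [map_mul, map_mul, map_inv]
    have hm : ι m ∈ Subgroup.normalizer (U : Set G) := hrange ▸ ⟨m, rfl⟩
    exact (Subgroup.mem_normalizer_iff.1 hm _).1 hu⟩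
  have hU'p : IsPGroup 2 U' := hU.comap_of_injective ι hinj
  have hU'T : U' ≤ TW := by
    have hp : IsPGroup 2 (U' ⊔ TW : Subgroup W) :=
      hU'p.to_sup_of_normal_left (isPGroup_sub (k := 7) card_facts.1)
    obtain ⟨k, hk⟩ := IsPGroup.iff_card.1 hp
    have h1 : Nat.card (U' ⊔ TW : Subgroup W) ∣ Nat.card W := Subgroup.card_subgroup_dvd_card _
    rw [Nat.card_eq_fintype_card (α := W), card_facts.2.2.2.2.2.2, hk] at h1
    have h3 : Nat.Coprime (2 ^ k) 9 := Nat.Coprime.pow_left k (by norm_num)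
    have h4 : 2 ^ k ∣ 2 ^ 7 := Nat.Coprime.dvd_of_dvd_mul_right h3 (by norm_num at h1 ⊢; exact h1)
    have h5 : TW = U' ⊔ TW := Subgroup.eq_of_le_of_card_ge le_sup_right (by
      rw [hk, card_sub TW, card_facts.1]
      exact Nat.le_of_dvd (by norm_num) h4)
    exact h5 ▸ le_sup_left
  have hU'A : U' ≤ AW := fun u hu => core_in_A u (mem_TL (hU'T hu)) fun m _ => hU'T (hU'n.conj_mem u hu m)
  have hAU : AW ≤ U' := by
    obtain ⟨v, hv, hv1⟩ : ∃ v ∈ U', v ≠ 1 := by
      by_contra h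
      push Not at h
      refine hUne ((Subgroup.eq_bot_iff_forall _).2 fun x hx => ?_)
      obtain ⟨v, rfl⟩ := hUM hx
      rw [h v hx, map_one]
    have hz : z1 ∈ U' := by
      rcases A_irred v (mem_TL (hU'T hv)) (hU'A hv) hv1 with ⟨k, -, hk⟩ | ⟨m, -, k, -, hk⟩ <;> rw [← hk]
      · exact hU'n.conj_mem v hv k
      · exact hU'n.conj_mem _ (U'.mul_mem hv (hU'n.conj_mem v hv m)) k
    intro u hu
    rcases A_gen u (mem_TL (AW_le_TW hu)) hu with rfl | ⟨k, -, rfl⟩ | ⟨k, -, l, -, rfl⟩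
    · exact U'.one_mem
    · exact hU'n.conj_mem _ hz k
    · exact U'.mul_mem (hU'n.conj_mem _ hz k) (hU'n.conj_mem _ hz l)
  have hUeq : U = AW.map ι := by
    rw [← Subgroup.map_comap_eq_self hUM, le_antisymm hAU hU'A]
  exact ⟨⟨ι, hinj, S, hSP.symm, by rw [← hUeq, hrange], hQ, hs, hG⟩⟩

end Cfsg.Agent.Lib.WrS4QT
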