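import Cfsg.Agent.Lib.WrS4QT.Layer
import Cfsg.Agent.S0497

/-!
# The contradiction
-/

set_option autoImplicit false
set_option linter.style.haveILetI false
set_option linter.unusedSectionVars false
set_option maxRecDepth 4000

open Cfsg

namespace Cfsg.Agent.Lib.WrS4QT

open W

theorem perm_six_pow (σ : Equiv.Perm (Fin 6)) : σ ^ 60 = 1 := by
  rw [← orderOf_dvd_iff_pow_eq_one, ← Equiv.Perm.lcm_cycleType, Multiset.lcm_dvd]
  intro n hn
  have h1 : n ≤ 6 :=
    (Multiset.le_sum_of_mem hn).trans (σ.sum_cycleType_le.trans (le_of_eq (Fintype.card_fin 6)))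
  have h2 := Equiv.Perm.two_le_of_mem_cycleType hn
  interval_cases n <;> norm_num

namespace Data

variable {G : Type*} [Group G] [Finite G] (d : Data G)

/-- Conjugation on the centraliser. -/
def conjC1 (h : G) (hh : h ∈ Subgroup.normalizer (d.im V1W : Set G)) : d.C1 →* d.C1 where
  toFun g := ⟨h * (g : G) * h⁻¹, (Subgroup.mem_normalizer_iff.1 (normalizer_cent_le le_rfl hh) _).1 g.2⟩
  map_one' := Subtype.ext (by show h * 1 * h⁻¹ = 1; rw [mul_one, mul_inv_cancel])
  map_mul' a b := Subtype.ext (by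
    show h * ((a : G) * b) * h⁻¹ = h * (a : G) * h⁻¹ * (h * (b : G) * h⁻¹)
    group)

theorem conjC1_coe (h : G) (hh : h ∈ Subgroup.normalizer (d.im V1W : Set G)) (g : d.C1) :
    (d.conjC1 h hh g : G) = h * (g : G) * h⁻¹ := rfl

/-- The induced map on the layer. -/
def act (h : G) (hh : h ∈ Subgroup.normalizer (d.im V1W : Set G)) : d.LQ →* d.LQ :=
  QuotientGroup.map d.Vq d.Vq (d.conjC1 h hh) fun g hg => (Subgroup.mem_normalizer_iff.1 hh _).1 hg

theorem act_rho (h : G) (hh : h ∈ Subgroup.normalizer (d.im V1W : Set G)) (g : d.C1) :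
    d.act h hh (d.rho g) = d.rho (d.conjC1 h hh g) := rfl

theorem act_psi (h : G) (hh : h ∈ Subgroup.normalizer (d.im V1W : Set G))
    (hb : ∀ b, h * d.ι (emb b) = d.ι (emb b) * h) (b : S4) : d.act h hh (d.psi b) = d.psi b :=
  congrArg d.rho (Subtype.ext (show d.conjC1 h hh (d.blk b) = (d.blk b : G) by
    rw [conjC1_coe, coe_blk, hb b, mul_inv_cancel_right]))

/-- The correction of a moved element lies in the four-group. -/
theorem act_Y {h : G} (hh : h ∈ Subgroup.normalizer (d.im V1W : Set G))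
    (hb : ∀ b, h * d.ι (emb b) = d.ι (emb b) * h) {Y : d.C1} (hYN : (Y : G) ∈ d.NB)
    (hY : (Y : G) * d.ι z2 * (Y : G)⁻¹ = d.ι x2) :
    ∃ b, S4.inW b = true ∧ d.act h hh (d.rho Y) = d.rho Y * d.psi b := by
  set α := d.act h hh
  set q := d.rho Y
  set u := q⁻¹ * α q with hu
  have hfix : ∀ b : S4, (∃ w, q * d.psi b * q⁻¹ = d.psi w) → u * d.psi b = d.psi b * u := by
    rintro b ⟨w, hw⟩
    have h1 : α q * d.psi b * (α q)⁻¹ = d.psi w := by
      rw [← d.act_psi h hh hb b, ← map_inv, ← map_mul, ← map_mul, hw, d.act_psi h hh hb]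
    have h2 : α q * d.psi b = q * d.psi b * q⁻¹ * α q := by rw [hw, ← h1]; group
    rw [hu, mul_assoc, h2]
    group
  obtain ⟨w, -, hw⟩ := d.move_W hYN S4.block_facts.2.2.2.2.2.1
  have hzx : q * d.psi S4.z * q⁻¹ = d.psi S4.x := by
    show d.rho Y * d.rho (d.blk S4.z) * (d.rho Y)⁻¹ = d.rho (d.blk S4.x)
    rw [← map_inv, ← map_mul, ← map_mul]
    congr 1
    refine Subtype.ext ?_
    rw [Subgroup.coe_mul, Subgroup.coe_mul, Subgroup.coe_inv, coe_blk, coe_blk, emb_elements.1, emb_elements.2.1, hY]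
  obtain ⟨p, hp⟩ := d.exists_delta (hfix S4.z ⟨_, hzx⟩)
  refine ⟨S4.deltaHom p, S4.W_facts.2.1 _ (S4.delta_facts.2.1 p).1 (d.psi_inj ?_), ?_⟩
  · rw [map_mul, map_mul, hp]
    exact hfix S4.x ⟨w, hw⟩
  · rw [hp, hu, mul_inv_cancel_left]

theorem y1_NV1 : d.ι y1 ∈ Subgroup.normalizer (d.im V1W : Set G) := by
  refine d.mem_NV1 ?_ ?_ <;> rw [← map_inv, ← map_mul, ← map_mul]
  · exact d.mem_im.2 y1_facts.1
  · exact d.mem_im.2 y1_facts.2.1

theorem x1_NV1 : d.ι x1 ∈ Subgroup.normalizer (d.im V1W : Set G) :=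
  d.Cz_le_NV1 (Subgroup.mem_centralizer_singleton_iff.2 (by rw [← map_mul, ← map_mul, x1_facts.2.1]))

theorem emb_comm {u : W} (hu : ∀ b, emb b * u = u * emb b) (b : S4) : d.ι u * d.ι (emb b) = d.ι (emb b) * d.ι u := by
  rw [← map_mul, ← map_mul, hu b]

/-- `y₁` centralises the layer. -/
theorem y1_trivial (l : d.LQ) : d.act (d.ι y1) d.y1_NV1 l = l := by
  classical
  haveI := d.layer.1
  set α := d.act (d.ι y1) d.y1_NV1
  have hb := d.emb_comm (u := y1) fun b => (emb_facts b).2.2.2.2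
  obtain ⟨Y, hYN, hY⟩ := d.exists_Y
  set F : Subgroup d.LQ := MonoidHom.eqLocus α (MonoidHom.id _)
  have hK : d.psi.range ≤ F := by
    rintro _ ⟨b, rfl⟩
    exact d.act_psi _ _ hb b
  have hYF : d.rho Y ∈ F := by
    obtain ⟨b, hbW, hbY⟩ := d.act_Y d.y1_NV1 hb hYN hY
    have h3 : α (α (α (d.rho Y))) = d.rho Y := by
      simp only [α, act_rho]
      congr 1
      refine Subtype.ext ?_
      simp only [conjC1_coe]
      rw [show d.ι y1 * (d.ι y1 * (d.ι y1 * (Y : G) * (d.ι y1)⁻¹) * (d.ι y1)⁻¹) * (d.ι y1)⁻¹ =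
        d.ι y1 * (d.ι y1 * d.ι y1) * (Y : G) * (d.ι y1 * (d.ι y1 * d.ι y1))⁻¹ by group, ← map_mul, ← map_mul,
        y1_facts.2.2.1, map_one, inv_one, mul_one, one_mul]
    have hb2 : d.psi b * d.psi b = 1 := by rw [← map_mul, S4.W_facts.2.2 b hbW, map_one]
    have hb1 : d.psi b = 1 := by
      rw [hbY, map_mul, hbY, map_mul, map_mul, hbY, d.act_psi _ _ hb, d.act_psi _ _ hb, mul_assoc (d.rho Y), hb2,
        mul_one] at h3
      exact mul_eq_left.1 h3
    show α (d.rho Y) = d.rho Y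
    rw [hbY, hb1, mul_one]
  have hnot : d.rho Y ∉ d.psi.range := by
    rintro ⟨b, hb'⟩
    refine S4.block_facts.2.2.2.1 b (d.psi_inj ?_)
    rw [map_mul, map_mul, map_inv, hb']
    show d.rho Y * d.rho (d.blk S4.z) * (d.rho Y)⁻¹ = d.rho (d.blk S4.x)
    rw [← map_inv, ← map_mul, ← map_mul]
    congr 1
    refine Subtype.ext ?_
    rw [Subgroup.coe_mul, Subgroup.coe_mul, Subgroup.coe_inv, coe_blk, coe_blk, emb_elements.1, emb_elements.2.1, hY]
  suffices hF : F = ⊤ by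
    have hl : l ∈ F := hF ▸ Subgroup.mem_top l
    exact hl
  by_contra hne
  have h24 : Nat.card d.psi.range = 24 := by
    rw [← Nat.card_congr (MonoidHom.ofInjective d.psi_inj).toEquiv, Nat.card_eq_fintype_card,
      Fintype.card_congr S4.equiv, Fintype.card_fin]
  have hd : 24 ∣ Nat.card F := h24 ▸ Subgroup.card_dvd_of_le hK
  have hgt : 24 < Nat.card F := by
    rw [← h24]
    refine lt_of_le_of_ne (Subgroup.card_le_of_le hK) fun he => hnot ?_
    rw [Subgroup.eq_of_le_of_card_ge hK he.ge]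
    exact hYF
  obtain ⟨m, hm⟩ := hd
  have hi := Subgroup.card_mul_index F
  have hidx : F.index ≤ 5 := by
    rw [hm] at hi hgt
    by_contra hgt5
    have hm2 : 2 ≤ m := by omega
    rcases d.layer.2 with h | h <;> rw [h, mul_assoc] at hi
    · have h7 : m * F.index = 7 := by omega
      have := (Nat.prime_seven.eq_one_or_self_of_dvd m ⟨_, h7.symm⟩)
      rcases this with h' | h'
      · omega
      · rw [h'] at h7; omega
    · have h15 : m * F.index = 15 := by omega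
      have hm15 : m ≤ 15 := Nat.le_of_dvd (by norm_num) ⟨_, h15.symm⟩
      interval_cases m <;> omega
  have hcore : F.normalCore = ⊥ := (IsSimpleGroup.eq_bot_or_eq_top_of_normal _ (Subgroup.normalCore_normal F)).resolve_right
    fun h => hne (top_le_iff.1 (h ▸ Subgroup.normalCore_le F))
  rw [Subgroup.normalCore_eq_ker, MonoidHom.ker_eq_bot_iff] at hcore
  have hc := Nat.card_le_card_of_injective _ hcore
  rw [Nat.card_perm, ← F.index_eq_card] at hc
  have := hc.trans (Nat.factorial_le hidx)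
  rcases d.layer.2 with h | h <;> rw [h] at this <;> norm_num [Nat.factorial] at this

theorem y1_moves {g : d.C1} : d.ι y1 * (g : G) * (d.ι y1)⁻¹ * (g : G)⁻¹ ∈ d.im V1W := by
  have h := d.y1_trivial (d.rho g)
  rw [act_rho, ← mul_inv_eq_one, ← map_inv, ← map_mul, d.rho_eq_one] at h
  exact h

/-- The layer has not order 360. -/
theorem not_360 : Nat.card d.LQ ≠ 360 := by
  classical
  intro h360
  haveI : Fact (Nat.Prime 3) := ⟨Nat.prime_three⟩
  haveI := d.layer.1
  obtain ⟨e⟩ := Cfsg.Agent.S0497.result h360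
  obtain ⟨P⟩ : Nonempty (Sylow 3 d.C1) := inferInstance
  have hC : Nat.card d.C1 = 360 * 4 := by
    rw [Subgroup.card_eq_card_quotient_mul_card_subgroup d.Vq, h360,
      Nat.card_congr (Subgroup.subgroupOfEquivOfLe d.V1_le_C1).toEquiv, card_im, card_sub, D1_card.2]
  have hP : Nat.card (P : Subgroup d.C1) = 3 ^ 2 := by
    obtain ⟨k, hk⟩ := IsPGroup.iff_card.1 P.isPGroup'
    have h1 : 3 ^ 2 ∣ Nat.card (P : Subgroup d.C1) := P.pow_dvd_card_of_pow_dvd_card (by rw [hC]; norm_num)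
    have h2 := Subgroup.card_subgroup_dvd_card (P : Subgroup d.C1)
    rw [hk] at h1 h2 ⊢
    rw [hC] at h2
    have h3 : 2 ≤ k := (Nat.pow_dvd_pow_iff_le_right (by norm_num)).1 h1
    rcases Nat.lt_or_ge 2 k with h4 | h4
    · have h5 := (pow_dvd_pow 3 h4).trans h2
      norm_num at h5
    · rw [le_antisymm h4 h3]
  have hV2 : ∀ v ∈ d.im V1W, v * v = 1 := by
    rintro _ ⟨u, hu, rfl⟩
    rw [← map_mul, (by decide +kernel : ∀ u : W, u ∈ V1W → u * u = 1) u hu, map_one]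
  have hcube : ∀ g ∈ (P : Subgroup d.C1), (g : G) ^ 3 = 1 := by
    intro g hg
    have h9o : orderOf g ∣ 3 ^ 2 := hP ▸ Subgroup.orderOf_dvd_natCard _ hg
    have h9 : g ^ 9 = 1 := orderOf_dvd_iff_pow_eq_one.1 h9o
    have hσ9 : (e (d.rho g) : Equiv.Perm (Fin 6)) ^ 9 = 1 := by
      rw [← SubgroupClass.coe_pow, ← map_pow, ← map_pow, h9, map_one, map_one, OneMemClass.coe_one]
    have hσ3 : (e (d.rho g) : Equiv.Perm (Fin 6)) ^ 3 = 1 := by
      have := pow_gcd_eq_one.2 ⟨hσ9, perm_six_pow _⟩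
      rwa [show Nat.gcd 9 60 = 3 from rfl] at this
    have h3 : d.rho (g ^ 3) = 1 := by
      rw [map_pow]
      refine e.injective ?_
      rw [map_pow, map_one]
      exact Subtype.ext hσ3
    have h6 : ((g : G) ^ 3) * ((g : G) ^ 3) = 1 := hV2 _ (d.rho_eq_one.1 h3)
    have h9' : ((g : G) ^ 3) ^ 3 = 1 := by
      rw [← pow_mul]
      have h : ((g ^ 9 : d.C1) : G) = ((1 : d.C1) : G) := by rw [h9]
      rwa [SubgroupClass.coe_pow, OneMemClass.coe_one] at h
    rw [pow_succ, pow_two, h6, one_mul] at h9'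
    exact h9'
  set Y := d.ι y1
  have hy3 : Y ^ 3 = 1 := by rw [← map_pow, pow_succ, pow_two, mul_assoc, y1_facts.2.2.1, map_one]
  have hcomm : ∀ g ∈ (P : Subgroup d.C1), Y * (g : G) = (g : G) * Y := by
    intro g hg
    set v := Y * (g : G) * Y⁻¹ * (g : G)⁻¹ with hv
    have hvV : v ∈ d.im V1W := d.y1_moves
    have hvg : Commute v (g : G) := (Subgroup.mem_centralizer_iff.1 g.2 v hvV)
    have h1 : (v * g) ^ 3 = 1 := by
      rw [show v * g = Y * (g : G) * Y⁻¹ by rw [hv]; group, conj_pow, hcube g hg, mul_one, mul_inv_cancel]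
    rw [hvg.mul_pow, hcube g hg, mul_one, pow_succ, pow_two, hV2 v hvV, one_mul, hv, mul_inv_eq_one,
      mul_inv_eq_iff_eq_mul] at h1
    exact h1
  have hPc : ∀ a ∈ (P : Subgroup d.C1), ∀ b ∈ (P : Subgroup d.C1), (a : G) * b = (b : G) * a := fun a ha b hb =>
    congrArg (fun x : (P : Subgroup d.C1) => ((x : d.C1) : G))
      ((IsPGroup.commGroupOfCardEqPrimeSq hP).mul_comm ⟨a, ha⟩ ⟨b, hb⟩)
  set P' := (P : Subgroup d.C1).map d.C1.subtype
  set S : Set G := insert Y (P' : Set G)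
  set E := Subgroup.closure S
  have hSS : ∀ a ∈ S, ∀ b ∈ S, a * b = b * a := by
    rintro a (rfl | ⟨a, ha, rfl⟩) b (rfl | ⟨b, hb, rfl⟩)
    · rfl
    · exact hcomm b hb
    · exact (hcomm a ha).symm
    · exact hPc a ha b hb
  have hE1 : E ≤ Subgroup.centralizer S := (Subgroup.closure_le _).2 fun a ha =>
    Subgroup.mem_centralizer_iff.2 fun b hb => hSS b hb a ha
  have hE2 : E ≤ Subgroup.centralizer (E : Set G) := (Subgroup.closure_le _).2 fun a ha =>
    Subgroup.mem_centralizer_iff.2 fun b hb => (Subgroup.mem_centralizer_iff.1 (hE1 hb) a ha).symm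
  have hE3 : ∀ a ∈ E, a ^ 3 = 1 := by
    intro a ha
    induction ha using Subgroup.closure_induction with
    | mem x hx =>
      rcases hx with rfl | ⟨x, hx, rfl⟩
      · exact hy3
      · exact hcube x hx
    | one => exact one_pow 3
    | mul x y hx hy ihx ihy =>
      have hc : Commute x y := (Subgroup.mem_centralizer_iff.1 (hE2 hy) x hx)
      rw [hc.mul_pow, ihx, ihy, one_mul]
    | inv x hx ih => rw [inv_pow, ih, inv_one]
  set N := Subgroup.normalizer (d.im V1W : Set G)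
  have hEN : E ≤ N := (Subgroup.closure_le _).2 (by
    rintro a (rfl | ⟨a, ha, rfl⟩)
    · exact d.y1_NV1
    · exact Subgroup.centralizer_le_normalizer _ a.2)
  have hPE : P' < E := by
    refine lt_of_le_of_ne (fun a ha => Subgroup.subset_closure (Set.mem_insert_of_mem _ ha)) fun he => ?_
    have hY : Y ∈ P' := he ▸ Subgroup.subset_closure (Set.mem_insert _ _)
    have h := (d.mem_C1.1 (Subgroup.map_subtype_le _ hY)).2
    rw [← map_mul, ← map_mul] at h
    exact y1_facts.2.2.2.2 (d.inj h)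
  have hlocal : IsTwoLocal N := ⟨d.im V1W, d.isPGroup_T0.to_le (Subgroup.map_mono fun u hu =>
    (D1_facts u ((by decide +kernel : ∀ u : W, u ∈ V1W → u ∈ D1W) u hu)).1),
    d.im_ne V1_facts.2.1 misc.2.2.2.2.2.2.2.2.2.2.2.2.2.1, rfl⟩
  have h9 := d.hQ.1 3 Nat.prime_three (by norm_num) N hlocal (E.subgroupOf N)
    ⟨⟨fun a b => Subtype.ext (Subtype.ext (Subgroup.mem_centralizer_iff.1 (hE2 b.2) _ a.2))⟩⟩
    (fun a ha => Subtype.ext (hE3 _ ha))
  rw [Nat.card_congr (Subgroup.subgroupOfEquivOfLe hEN).toEquiv] at h9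
  have hcard : Nat.card P' = 3 ^ 2 := by
    rw [← hP]
    exact (Nat.card_congr (Subgroup.equivMapOfInjective _ _ d.C1.subtype_injective).toEquiv).symm
  have hlt : Nat.card P' < Nat.card E :=
    lt_of_le_of_ne (Subgroup.card_le_of_le hPE.le) fun he => hPE.ne (Subgroup.eq_of_le_of_card_ge hPE.le he.ge)
  omega

/-- The layer has not order 168. -/
theorem not_168 : Nat.card d.LQ ≠ 168 := by
  classical
  intro h168
  haveI := d.layer.1
  set α := d.act (d.ι x1) d.x1_NV1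
  have hb := d.emb_comm (u := x1) fun b => (emb_facts b).2.2.2.1
  obtain ⟨Y, hYN, hY⟩ := d.exists_Y
  obtain ⟨b, hbW, hbY⟩ := d.act_Y d.x1_NV1 hb hYN hY
  set K0 := d.psi.range
  set q := d.rho Y
  have hzx : q * d.psi S4.z * q⁻¹ = d.psi S4.x := by
    show d.rho Y * d.rho (d.blk S4.z) * (d.rho Y)⁻¹ = d.rho (d.blk S4.x)
    rw [← map_inv, ← map_mul, ← map_mul]
    congr 1
    refine Subtype.ext ?_
    rw [Subgroup.coe_mul, Subgroup.coe_mul, Subgroup.coe_inv, coe_blk, coe_blk, emb_elements.1, emb_elements.2.1, hY]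
  set J : Subgroup S4 := K0.comap ((MulAut.conj q⁻¹).toMonoidHom.comp d.psi)
  have hJmem : ∀ c, c ∈ J ↔ q⁻¹ * d.psi c * q ∈ K0 := fun c => by
    show q⁻¹ * d.psi c * (q⁻¹)⁻¹ ∈ K0 ↔ _
    rw [inv_inv]
  obtain ⟨w, hwW, hwz⟩ := d.move_W (g := Y⁻¹) (inv_mem hYN) S4.block_facts.2.2.2.2.1
  rw [map_inv, inv_inv] at hwz
  replace hwz : q⁻¹ * d.psi S4.z * q = d.psi w := hwz
  have hJz : S4.z ∈ J := (hJmem _).2 ⟨w, hwz.symm⟩
  have hJx : S4.x ∈ J := (hJmem _).2 ⟨S4.z, by rw [← hzx]; group⟩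
  have hJa : S4.a ∉ J := by
    intro ha
    obtain ⟨c, hc⟩ := (hJmem _).1 (J.mul_mem hJx ha)
    have h1 : d.psi (c * c) = d.psi w := by
      rw [map_mul, hc, ← hwz,
        show q⁻¹ * d.psi (S4.x * S4.a) * q * (q⁻¹ * d.psi (S4.x * S4.a) * q) =
          q⁻¹ * (d.psi (S4.x * S4.a) * d.psi (S4.x * S4.a)) * q by group, ← map_mul, S4.block_facts.1]
    rcases S4.block_facts.2.1 c (d.psi_inj h1 ▸ hwW) with h | h <;>
      (rw [d.psi_inj h1] at h; rw [h] at hwz)
    · rw [map_one] at hwz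
      refine S4.block_facts.2.2.2.2.2.2.2.1 (d.psi_inj ?_)
      rw [map_one, show d.psi S4.z = q * (q⁻¹ * d.psi S4.z * q) * q⁻¹ by group, hwz]
      group
    · refine S4.block_facts.2.2.2.2.2.2.2.2.1 (d.psi_inj ?_)
      calc d.psi S4.x = q * d.psi S4.z * q⁻¹ := hzx.symm
        _ = q * (q⁻¹ * d.psi S4.z * q) * q⁻¹ := by rw [hwz]
        _ = d.psi S4.z := by group
  have hJ : ∀ c ∈ J, S4.inW c = true := by
    intro c hc
    by_contra hcW
    have h := S4.W_words c (by simpa using hcW)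
    refine hJa ?_
    simp only [List.mem_cons, List.not_mem_nil, or_false] at h
    rcases h with h | h | h | h | h | h | h | h | h | h <;> rw [h] <;>
      repeat' first | exact hc | exact hJx | exact hJz | apply mul_mem
  -- the seven cosets
  set pt : Option {r : S4 // r ∈ S4.reps} → d.LQ ⧸ K0 := fun o => o.elim ((1 : d.LQ) : d.LQ ⧸ K0)
    fun r => ((d.psi r.1 * q : d.LQ) : d.LQ ⧸ K0)
  have hq : q ∉ K0 := by
    rintro ⟨c, hc⟩
    refine S4.block_facts.2.2.2.1 c (d.psi_inj ?_)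
    rw [map_mul, map_mul, map_inv, hc, hzx]
  have hinj : Function.Injective pt := by
    rintro (_ | ⟨r, hr⟩) (_ | ⟨r', hr'⟩) h
    · rfl
    · have h1 := QuotientGroup.eq.1 h
      rw [inv_one, one_mul] at h1
      exact absurd (by simpa using mul_mem (inv_mem (show d.psi r' ∈ K0 from ⟨r', rfl⟩)) h1) hq
    · have h1 := QuotientGroup.eq.1 h.symm
      rw [inv_one, one_mul] at h1
      exact absurd (by simpa using mul_mem (inv_mem (show d.psi r ∈ K0 from ⟨r, rfl⟩)) h1) hq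
    · have h1 := QuotientGroup.eq.1 h
      have h2 : r⁻¹ * r' ∈ J := (hJmem _).2 (by
        rw [map_mul, map_inv, show q⁻¹ * ((d.psi r)⁻¹ * d.psi r') * q = (d.psi r * q)⁻¹ * (d.psi r' * q) by group]
        exact h1)
      exact congrArg some (Subtype.ext (S4.reps_facts.2 r hr r' hr' (hJ _ h2)))
  haveI : Fintype (d.LQ ⧸ K0) := Fintype.ofFinite _
  have h7 : Nat.card (d.LQ ⧸ K0) = 7 := by
    have h := Subgroup.card_eq_card_quotient_mul_card_subgroup K0
    rw [h168, ← Nat.card_congr (MonoidHom.ofInjective d.psi_inj).toEquiv, Nat.card_eq_fintype_card (α := S4),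
      Fintype.card_congr S4.equiv, Fintype.card_fin] at h
    omega
  have hsurj : Function.Surjective pt := by
    refine ((Nat.bijective_iff_injective_and_card _).2 ⟨hinj, ?_⟩).2
    rw [h7, Nat.card_eq_fintype_card, Fintype.card_option,
      Fintype.card_of_subtype S4.reps.toFinset (fun r => List.mem_toFinset),
      List.toFinset_card_of_nodup S4.reps_facts.1]
    rfl
  have hKfix : ∀ k ∈ K0, α k = k := by
    rintro _ ⟨c, rfl⟩
    exact d.act_psi _ _ hb c
  have hfix : ∀ l : d.LQ, l⁻¹ * α l ∈ K0 := by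
    intro l
    obtain ⟨o, ho⟩ := hsurj (l : d.LQ ⧸ K0)
    obtain ⟨rep, hrep, hmem⟩ : ∃ rep, rep⁻¹ * α rep ∈ K0 ∧ rep⁻¹ * l ∈ K0 := by
      cases o with
      | none => exact ⟨1, by rw [map_one, mul_one, inv_one]; exact one_mem _, QuotientGroup.eq.1 ho⟩
      | some r =>
        refine ⟨d.psi r.1 * q, ?_, QuotientGroup.eq.1 ho⟩
        rw [map_mul, hKfix _ ⟨r.1, rfl⟩, hbY,
          show (d.psi r.1 * q)⁻¹ * (d.psi r.1 * (q * d.psi b)) = d.psi b by group]
        exact ⟨b, rfl⟩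
    have he : l = rep * (rep⁻¹ * l) := by group
    rw [he, map_mul, hKfix _ hmem,
      show (rep * (rep⁻¹ * l))⁻¹ * (α rep * (rep⁻¹ * l)) = (rep⁻¹ * l)⁻¹ * (rep⁻¹ * α rep) * (rep⁻¹ * l) by group]
    exact mul_mem (mul_mem (inv_mem hmem) hrep) hmem
  have hcore : K0.normalCore = ⊥ := by
    refine (IsSimpleGroup.eq_bot_or_eq_top_of_normal _ (Subgroup.normalCore_normal K0)).resolve_right fun h => hq ?_
    have hle := Subgroup.normalCore_le K0
    rw [h] at hle
    exact hle (Subgroup.mem_top q)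
  have hid : ∀ l, α l = l := by
    intro l
    have hmem : l⁻¹ * α l ∈ K0.normalCore := by
      intro g
      have h1 := hfix (l * g⁻¹)
      rw [map_mul] at h1
      have h2 := mul_mem h1 (inv_mem (hfix g⁻¹))
      rwa [show (l * g⁻¹)⁻¹ * (α l * α g⁻¹) * ((g⁻¹)⁻¹ * α g⁻¹)⁻¹ = g * (l⁻¹ * α l) * g⁻¹ by group] at h2
    rw [hcore, Subgroup.mem_bot, inv_mul_eq_one] at hmem
    exact hmem.symm
  have h := hid q
  rw [act_rho, ← mul_inv_eq_one, ← map_inv, ← map_mul, d.rho_eq_one, Subgroup.coe_mul, Subgroup.coe_inv,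
    conjC1_coe] at h
  obtain ⟨v, hv, hve⟩ := h
  -- `y` sends `(x, z)` into the class of `(x, x)`
  set y := (Y : G)
  have hvy : d.ι v * y = y * d.ι v := (Subgroup.mem_centralizer_iff.1 Y.2 _ (d.mem_im.2 hv))
  have hX : y * d.ι x1 * y⁻¹ = d.ι (x1 * v⁻¹) ∨ y * d.ι x1 * y⁻¹ = d.ι (x1 * v) ∨
      y * d.ι x1 * y⁻¹ = d.ι (v⁻¹ * x1) := by
    right; right
    have h1 : d.ι x1 * y = d.ι v * y * d.ι x1 := by rw [hve]; group
    rw [map_mul, map_inv, mul_inv_eq_iff_eq_mul, mul_assoc, h1]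
    group
  obtain ⟨v', hv', hyx⟩ : ∃ v' ∈ V1W, y * d.ι x1 * y⁻¹ = d.ι (x1 * v') := by
    rcases hX with h1 | h1 | h1
    · exact ⟨_, inv_mem hv, h1⟩
    · exact ⟨_, hv, h1⟩
    · exact ⟨x1⁻¹ * v⁻¹ * x1, (by decide +kernel : ∀ u : W, u ∈ V1W → x1⁻¹ * u⁻¹ * x1 ∈ V1W) v hv,
        by rw [h1]; congr 1; group⟩
  have hB : x1 * v' ∈ BW := by
    obtain ⟨u, hu, hue⟩ := d.NB_move hYN x1_facts.2.2.2.2
    rwa [d.inj (hyx.symm.trans hue)]
  have hXX := x1_class v' hv' hB
  refine d.five.2.1 (((d.five.1.trans (d.conj_ZX x1z2_mem)).trans ?_).trans (d.conj_XX hXX).symm)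
  refine isConj_iff.2 ⟨y, ?_⟩
  rw [map_mul d.ι x1 z2, map_mul, ← hyx, ← hY]
  group

end Data

/-- No QTKE group has such a maximal 2-local subgroup. -/
theorem Data.contradiction {G : Type*} [Group G] [Finite G] (d : Data G) : False := by
  rcases d.layer.2 with h | h
  · exact d.not_168 h
  · exact d.not_360 h

end Cfsg.Agent.Lib.WrS4QT
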