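import Cfsg.Agent.Lib.WrS4QT.Five
import Mathlib.GroupTheory.SpecificGroups.Dihedral

/-!
# Finite facts about the second block
-/

set_option autoImplicit false
set_option maxRecDepth 4000

namespace Cfsg.Agent.Lib.WrS4QT

namespace S4

/-- The dihedral group as a subgroup of `S₄`. -/
def delta : DihedralGroup 4 → S4
  | DihedralGroup.r i => (x * a) ^ i.val
  | DihedralGroup.sr i => x * (x * a) ^ i.val

theorem delta_mul : ∀ p q : DihedralGroup 4, delta (p * q) = delta p * delta q := by decide +kernel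

/-- The dihedral group as a subgroup of `S₄`. -/
def deltaHom : DihedralGroup 4 →* S4 := MonoidHom.mk' delta delta_mul

theorem delta_facts : (∀ p, delta p = 1 → p = 1) ∧ (∀ p, inD (delta p) = true ∧ delta p * z = z * delta p) ∧
    ∀ b, inD b = true → ∃ p, delta p = b := by
  decide +kernel

theorem block_facts : x * a * (x * a) = z ∧ (∀ c, inW (c * c) = true → c * c = 1 ∨ c * c = z) ∧
    (∃ c, c * z * c⁻¹ = a) ∧ (∀ b, b * z * b⁻¹ ≠ x) ∧ inW z = true ∧ inW x = true ∧ inW a = false ∧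
    z ≠ 1 ∧ x ≠ z ∧ x * a * x * a = z := by
  decide +kernel

theorem W_facts : (∀ b, inW b = true → b = 1 ∨ b = z ∨ b = x ∨ b = x * z) ∧
    (∀ b, inD b = true → b * x = x * b → inW b = true) ∧
    (∀ b, inW b = true → b * b = 1) := by
  decide +kernel

theorem W_words : ∀ b, inW b = false → a ∈ [b, x * b, b * x, b * z, b * b, b * b * z, b * z * b,
    b * z * b * z, b * z * (b * b), b * b * z * b] := by
  decide +kernel

/-- Representatives of the left cosets of the four-group. -/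
def reps : List S4 := [⟨0⟩, ⟨2⟩, ⟨4⟩, ⟨8⟩, ⟨10⟩, ⟨16⟩]

theorem reps_facts : reps.Nodup ∧ ∀ r ∈ reps, ∀ r' ∈ reps, inW (r⁻¹ * r') = true → r = r' := by decide +kernel

end S4

namespace W

/-- The second block. -/
def emb : S4 →* W where
  toFun b := ⟨1, b, false⟩
  map_one' := rfl
  map_mul' b c := by rw [mul_false, one_mul]

def D1W : Subgroup W := prodSub S4.VSub S4.DSub

instance decD1W : DecidablePred (· ∈ D1W) := fun u =>
  decidable_of_iff (u.s = false ∧ S4.inV u.a = true ∧ S4.inD u.b = true) Iff.rfl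

theorem emb_facts : ∀ b : S4, (emb b ∈ V1W → b = 1) ∧ emb b * z1 = z1 * emb b ∧ emb b * a1 = a1 * emb b ∧
    emb b * x1 = x1 * emb b ∧ emb b * y1 = y1 * emb b := by
  decide +kernel

theorem emb_elements : emb S4.z = z2 ∧ emb S4.x = x2 ∧ emb S4.a = a2 := by decide +kernel

theorem split_T0 : ∀ t ∈ TL, t ∈ T0W → t * a1 = a1 * t →
    t ∈ D1W ∧ t * (emb t.b)⁻¹ ∈ V1W ∧ S4.inD t.b = true := by
  decide +kernel

theorem split_BW : ∀ t ∈ TL, t ∈ BW → t * a1 = a1 * t → t * (emb t.b)⁻¹ ∈ V1W ∧ S4.inW t.b = true := by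
  decide +kernel

theorem emb_W : ∀ b : S4, S4.inW b = true → emb b ∈ BW := by decide +kernel

theorem D1_card : Fintype.card {u : W // u ∈ D1W} = 32 ∧ Fintype.card {u : W // u ∈ V1W} = 4 := by
  decide +kernel

theorem D1_facts : ∀ u : W, u ∈ D1W → u ∈ T0W ∧ u * z1 = z1 * u ∧ u * a1 = a1 * u := by decide +kernel

theorem z2_class : ∀ u : W, u ∈ V1W → u ≠ 1 → isZ (z2 * u) = true ∧ z2 * u ∈ TW := by decide +kernel

theorem y1_facts : y1 * z1 * y1⁻¹ ∈ V1W ∧ y1 * a1 * y1⁻¹ ∈ V1W ∧ y1 * (y1 * y1) = 1 ∧ y1 ≠ 1 ∧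
    y1 * a1 ≠ a1 * y1 := by
  decide +kernel

theorem x1_facts : x1 * a1 * x1⁻¹ = a1 * z1 ∧ x1 * z1 = z1 * x1 ∧ x1 * z2 = z2 * x1 ∧
    x1 * (a1 * z1) * x1⁻¹ = a1 ∧ x1 ∈ BW := by
  decide +kernel

theorem x1_class : ∀ u : W, u ∈ V1W → x1 * u ∈ BW → x1 * u * x2 ∈ XXl := by decide +kernel

theorem x1z2_mem : x1 * z2 ∈ ZXl := by decide +kernel

end W

end Cfsg.Agent.Lib.WrS4QT
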