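import Cfsg.Agent.Lib.WrS4QT.Orbits
import Cfsg.Agent.Lib.SylowInter.CharLocal
import Cfsg.Agent.S0215

/-!
# The centraliser of `z₁` normalises `⟨z₁, a₁⟩`
-/

set_option autoImplicit false
set_option linter.style.haveILetI false
set_option linter.unusedSectionVars false
set_option maxRecDepth 4000

open Cfsg

namespace Cfsg.Agent.Lib.WrS4QT

open W

namespace W

/-- The involutions of `T₀` with two nontrivial coordinates, not both transpositions. -/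
def isZ (u : W) : Bool :=
  decide (u ∈ T0W) && (decide (u * u = 1) && (!decide (u.a = 1) && (!decide (u.b = 1) &&
    !(S4.odd u.a && S4.odd u.b))))

def Crit : List W := [x1, x1 * z1] ++ XXl

theorem isZ_reduce : ∀ u ∈ TL, isZ u = true → ∃ m ∈ ML, m * u * m⁻¹ ∈ O5Z := by decide +kernel

theorem t_cases : ∀ u ∈ TL, u ∈ T0W → u * u = 1 →
    u = 1 ∨ u = z1 ∨ u = a1 ∨ u = a1 * z1 ∨ u ∈ Crit ∨ isZ u = true ∨ isZ (u * z1) = true := by
  decide +kernel

theorem crit_c : ∀ u ∈ Crit, ∃ c ∈ [x2, x2 * z2], u * c = c * u ∧ u * c ∈ Crit ∧ c * z1 ∈ ZXl := by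
  decide +kernel

theorem crit_RX : (∀ u ∈ Crit, u ∈ RXl ∨ u ∈ XXl) ∧ (∀ c ∈ [x2, x2 * z2], c ∈ RXl ∧ c * c = 1 ∧ c * z1 = z1 * c) := by
  decide +kernel

theorem c_cases : ∀ u ∈ TL, u ∈ T0W → u * u = 1 →
    isZ u = true ∨ u * z1 ∈ Crit ++ [1, z1, a1, a1 * z1] ∨ (isZ (a1 * u) = true ∧ isZ (a1 * z1 * u) = true) := by
  decide +kernel

theorem V1_facts : (∀ u : W, u ∈ V1W → u = 1 ∨ u = z1 ∨ u = a1 ∨ u = a1 * z1) ∧ z1 ∈ V1W ∧ a1 ∈ V1W ∧
    (∃ m ∈ ML, m * z1 * m⁻¹ = a1) ∧ (∃ m ∈ ML, m * z1 * m⁻¹ = a1 * z1) ∧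
    a1 * z1 = z1 * a1 ∧ a1 * a1 = 1 ∧ a1 ≠ 1 ∧ a1 ≠ z1 ∧ a1 * z1 ≠ 1 := by
  decide +kernel

theorem T0_V1 : ∀ t ∈ TL, t ∈ T0W → t * z1 * t⁻¹ ∈ V1W ∧ t * a1 * t⁻¹ ∈ V1W := by decide +kernel

theorem W2_facts : a2 * x2 * a2⁻¹ = x2 * z2 ∧ z2 * z2 = 1 ∧ x2 * x2 = 1 ∧ x2 ∈ T0W ∧ a2 ∈ T0W ∧ z2 ∈ T0W := by
  decide +kernel

end W

namespace Data

variable {G : Type*} [Group G] [Finite G] (d : Data G)

/-- The centraliser of `z₁`. -/
abbrev Cz : Subgroup G := Subgroup.centralizer ({d.ι z1} : Set G)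

theorem isZ_conj {u : W} (hu : u ∈ TW) (h : isZ u = true) : IsConj (d.ι zz) (d.ι u) := by
  obtain ⟨m, -, hm⟩ := isZ_reduce u (mem_TL hu) h
  refine IsConj.trans ?_ (d.conj_model m u).symm
  rcases List.mem_cons.1 hm with h | h
  · rw [h]
  · exact d.five.1.trans (d.conj_ZX h)

theorem Crit_not_zz {u : W} (hu : u ∈ Crit) : ¬ IsConj (d.ι zz) (d.ι u) := by
  intro h
  rcases crit_RX.1 u hu with h' | h'
  · exact d.R6_not_zz (List.mem_append_right _ h') h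
  · exact d.five.2.1 (h.trans (d.conj_XX h').symm)

theorem odd_trivial {O : Subgroup G} (hOC : O ≤ d.Cz) (hn : d.Cz ≤ Subgroup.normalizer (O : Set G))
    (hodd : Odd (Nat.card O)) : O = ⊥ := by
  haveI : Fact (Nat.Prime 2) := ⟨Nat.prime_two⟩
  obtain ⟨-, -, y, -, hy1, hy2⟩ := d.five
  have hyC : y ∈ d.Cz := Subgroup.mem_centralizer_singleton_iff.2 hy1
  have haC : d.ι a2 ∈ d.Cz := d.T0_le_cent (d.mem_im.2 W2_facts.2.2.2.2.1)
  have hz : ∀ x ∈ O, x * d.ι z2 = d.ι z2 * x → x = 1 := by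
    intro x hx h
    have h1 := d.cent_pair (Subgroup.mem_centralizer_singleton_iff.1 (hOC hx)) h
    obtain ⟨k, hk⟩ := d.isPGroup_T0 ⟨x, h1⟩
    refine orderOf_eq_one_iff.1 (Nat.eq_one_of_dvd_coprimes ?_
      (orderOf_dvd_of_pow_eq_one (congrArg Subtype.val hk : x ^ 2 ^ k = 1))
      (Subgroup.orderOf_dvd_natCard O hx))
    exact Nat.Coprime.pow_left k (Nat.coprime_two_left.2 hodd)
  have hstep : ∀ g ∈ d.Cz, ∀ a : G, (∀ x ∈ O, x * a = a * x → x = 1) →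
      ∀ x ∈ O, x * (g * a * g⁻¹) = g * a * g⁻¹ * x → x = 1 := by
    intro g hg a ha x hx h
    have h1 : g⁻¹ * x * g ∈ O := (Subgroup.mem_normalizer_iff''.1 (hn hg) x).1 hx
    have h2 := ha _ h1 (by
      calc g⁻¹ * x * g * a = g⁻¹ * (x * (g * a * g⁻¹)) * g := by group
        _ = g⁻¹ * (g * a * g⁻¹ * x) * g := by rw [h]
        _ = _ := by group)
    calc x = g * (g⁻¹ * x * g) * g⁻¹ := by group
      _ = 1 := by rw [h2]; group
  have hx2 := hy2 ▸ hstep y hyC _ hz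
  have hxz : ∀ x ∈ O, x * d.ι (x2 * z2) = d.ι (x2 * z2) * x → x = 1 := by
    rw [← W2_facts.1, map_mul, map_mul, map_inv]
    exact hstep _ haC _ hx2
  have hinv : ∀ u : W, u ∈ T0W → u * u = 1 → (∀ x ∈ O, x * d.ι u = d.ι u * x → x = 1) →
      ∀ x ∈ O, d.ι u * x * d.ι u = x⁻¹ := by
    intro u hu hu2 hf
    have h2 : d.ι u * d.ι u = 1 := by rw [← map_mul, hu2, map_one]
    refine SylowInter.CharLocal.inverts_of_fpf hodd h2 (fun x hx => ?_) fun x hx h => hf x hx h.symm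
    have := (Subgroup.mem_normalizer_iff.1 (hn (d.T0_le_cent (d.mem_im.2 hu))) x).1 hx
    rwa [inv_eq_of_mul_eq_one_right h2] at this
  refine (Subgroup.eq_bot_iff_forall _).2 fun x hx => hxz x hx ?_
  have i1 := hinv z2 W2_facts.2.2.2.2.2 W2_facts.2.1 hz x hx
  have i2 := hinv x2 W2_facts.2.2.2.1 W2_facts.2.2.1 hx2 x⁻¹ (inv_mem hx)
  rw [inv_inv, ← i1] at i2
  have e1 : d.ι z2 * d.ι z2 = 1 := by rw [← map_mul, W2_facts.2.1, map_one]
  have e2 : d.ι x2 * d.ι x2 = 1 := by rw [← map_mul, W2_facts.2.2.1, map_one]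
  rw [map_mul]
  calc x * (d.ι x2 * d.ι z2) = d.ι x2 * (d.ι z2 * x * d.ι z2) * d.ι x2 * (d.ι x2 * d.ι z2) := by rw [i2]
    _ = d.ι x2 * d.ι z2 * x * (d.ι z2 * (d.ι x2 * d.ι x2) * d.ι z2) := by group
    _ = _ := by rw [e2, mul_one, e1, mul_one]

theorem V1_norm_T0 : d.im T0W ≤ Subgroup.normalizer (d.im V1W : Set G) := by
  rintro _ ⟨t, ht, rfl⟩
  refine Baumann.mem_normalizer_of_forall ?_
  rintro _ ⟨u, hu, rfl⟩
  have h := T0_V1 t (mem_TL ((subset_TW t).2.2.2.2.2 ht)) ht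
  refine ⟨t * u * t⁻¹, ?_, by simp⟩
  rcases V1_facts.1 u hu with rfl | rfl | rfl | rfl
  · simpa using V1W.one_mem
  · exact h.1
  · exact h.2
  · rw [show t * (a1 * z1) * t⁻¹ = t * a1 * t⁻¹ * (t * z1 * t⁻¹) by group]
    exact mul_mem h.2 h.1

theorem a1_conj : IsConj (d.ι z1) (d.ι a1) ∧ IsConj (d.ι z1) (d.ι (a1 * z1)) := by
  obtain ⟨m, -, hm⟩ := V1_facts.2.2.2.1
  obtain ⟨m', -, hm'⟩ := V1_facts.2.2.2.2.1
  exact ⟨d.conj_of_eq hm, d.conj_of_eq hm'⟩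

theorem conj_z1_eq {g : G} (hg : g ∈ d.Cz) : g * d.ι z1 * g⁻¹ = d.ι z1 :=
  mul_inv_eq_iff_eq_mul.2 (Subgroup.mem_centralizer_singleton_iff.1 hg)

theorem conj_a1_cases {g : G} (hg : g ∈ d.Cz) {v : W} (hv : v ∈ V1W) (h : g * d.ι a1 * g⁻¹ = d.ι v) :
    v = a1 ∨ v = a1 * z1 := by
  rcases V1_facts.1 v hv with rfl | rfl | rfl | rfl
  · rw [map_one, conj_eq_one_iff] at h
    exact absurd h (d.im_ι_ne V1_facts.2.2.2.2.2.2.2.1)
  · refine absurd (d.inj ?_) V1_facts.2.2.2.2.2.2.2.2.1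
    exact mul_left_cancel (mul_right_cancel (h.trans (d.conj_z1_eq hg).symm))
  · exact Or.inl rfl
  · exact Or.inr rfl

theorem isolated {g : G} (hg : g ∈ d.Cz) (ht : g * d.ι a1 * g⁻¹ ∈ d.im T0W) :
    g * d.ι a1 * g⁻¹ = d.ι a1 ∨ g * d.ι a1 * g⁻¹ = d.ι (a1 * z1) := by
  haveI : Fact (Nat.Prime 2) := ⟨Nat.prime_two⟩
  obtain ⟨t, ht0, hte⟩ := ht
  have htT := (subset_TW t).2.2.2.2.2 ht0
  have ht2 : t * t = 1 := d.inj (by
    rw [map_mul, hte, show g * d.ι a1 * g⁻¹ * (g * d.ι a1 * g⁻¹) = g * (d.ι a1 * d.ι a1) * g⁻¹ by group,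
      ← map_mul, V1_facts.2.2.2.2.2.2.1, map_one, mul_one, mul_inv_cancel])
  have hc1 : IsConj (d.ι z1) (d.ι t) := d.a1_conj.1.trans (isConj_iff.2 ⟨g, hte.symm⟩)
  have hc2 : IsConj (d.ι z1) (d.ι (t * z1)) := d.a1_conj.2.trans (isConj_iff.2 ⟨g, by
    rw [map_mul, map_mul, hte,
      show g * (d.ι a1 * d.ι z1) * g⁻¹ = g * d.ι a1 * g⁻¹ * (g * d.ι z1 * g⁻¹) by group, d.conj_z1_eq hg]⟩)
  have hz1 : z1 ∈ TW := BW_le_TW misc_B.2.2.1
  rcases t_cases t (mem_TL htT) ht0 ht2 with h | h | h | h | h | h | h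
  · subst h
    rcases d.conj_a1_cases hg V1W.one_mem hte.symm with h | h
    · exact absurd h.symm V1_facts.2.2.2.2.2.2.2.1
    · exact absurd h.symm V1_facts.2.2.2.2.2.2.2.2.2
  · subst h
    exact absurd (d.inj (mul_left_cancel (mul_right_cancel (hte.symm.trans (d.conj_z1_eq hg).symm))))
      V1_facts.2.2.2.2.2.2.2.2.1
  · exact Or.inl (h ▸ hte.symm)
  · exact Or.inr (h ▸ hte.symm)
  · exfalso
    obtain ⟨c, hc, hct, hctC, hcz⟩ := crit_c t h
    obtain ⟨hcR, hc2', hcz1⟩ := crit_RX.2 c hc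
    set c' := g⁻¹ * d.ι c * g
    have hc'C : c' ∈ d.Cz := mul_mem (mul_mem (inv_mem hg)
      (Subgroup.mem_centralizer_singleton_iff.2 (by rw [← map_mul, ← map_mul, hcz1]))) hg
    have hc'a : c' * d.ι a1 = d.ι a1 * c' := by
      calc c' * d.ι a1 = g⁻¹ * (d.ι c * (g * d.ι a1 * g⁻¹)) * g := by simp only [c']; group
        _ = g⁻¹ * ((g * d.ι a1 * g⁻¹) * d.ι c) * g := by rw [← hte, ← map_mul, ← map_mul, hct]
        _ = _ := by simp only [c']; group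
    have hc'V : c' ∈ Subgroup.normalizer (d.im V1W : Set G) := by
      refine Baumann.mem_normalizer_of_forall ?_
      rintro _ ⟨u, hu, rfl⟩
      refine ⟨u, hu, eq_mul_inv_iff_mul_eq.2 ?_⟩
      have h1 := Subgroup.mem_centralizer_singleton_iff.1 hc'C
      rcases V1_facts.1 u hu with rfl | rfl | rfl | rfl
      · rw [map_one, one_mul, mul_one]
      · exact h1.symm
      · exact hc'a.symm
      · rw [map_mul, mul_assoc, ← h1, ← mul_assoc, ← hc'a, mul_assoc]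
    have hc'2 : c' ^ 2 = 1 := by
      rw [pow_two, show c' * c' = g⁻¹ * (d.ι c * d.ι c) * g by simp only [c']; group, ← map_mul, hc2', map_one]
      group
    have hU : IsPGroup 2 (Subgroup.zpowers c') := fun x => ⟨1, by
      obtain ⟨x, hx⟩ := x
      obtain ⟨i, rfl⟩ := Subgroup.mem_zpowers_iff.1 hx
      refine Subtype.ext ?_
      show (c' ^ i) ^ 2 ^ 1 = 1
      rw [pow_one, ← zpow_natCast, ← zpow_mul, mul_comm, zpow_mul, zpow_natCast, hc'2, one_zpow]⟩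
    obtain ⟨k, hk, hkU⟩ := d.into_T0_within (K := d.Cz ⊓ Subgroup.normalizer (d.im V1W : Set G))
      (le_inf d.T0_le_cent d.V1_norm_T0) inf_le_left hU (Subgroup.zpowers_le.2 ⟨hc'C, hc'V⟩)
    obtain ⟨c2, hc20, hc2e⟩ := hkU ⟨c', Subgroup.mem_zpowers c', rfl⟩
    rw [MulEquiv.coe_toMonoidHom, MulAut.conj_apply] at hc2e
    have hc2T := (subset_TW c2).2.2.2.2.2 hc20
    have hk1 := d.conj_z1_eq hk.1
    obtain ⟨v, hv, hve⟩ := (Subgroup.mem_normalizer_iff.1 hk.2 _).1 (d.mem_im.2 V1_facts.2.2.1)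
    have hcc : IsConj (d.ι c) (d.ι c2) := isConj_iff.2 ⟨k * g⁻¹, by rw [hc2e]; simp only [c']; group⟩
    have hc22 : c2 * c2 = 1 := d.inj (by
      rw [map_mul, hc2e, show k * c' * k⁻¹ * (k * c' * k⁻¹) = k * c' ^ 2 * k⁻¹ by rw [pow_two]; group, hc'2,
        map_one, mul_one, mul_inv_cancel])
    rcases c_cases c2 (mem_TL hc2T) hc20 hc22 with h' | h' | h'
    · exact d.R6_not_zz (List.mem_append_right _ hcR) ((d.isZ_conj hc2T h').trans hcc.symm)
    · have h1 : IsConj (d.ι zz) (d.ι (c2 * z1)) := by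
        refine (d.five.1.trans (d.conj_ZX hcz)).trans (isConj_iff.2 ⟨k * g⁻¹, ?_⟩)
        rw [map_mul d.ι c2, hc2e, map_mul,
          show k * g⁻¹ * (d.ι c * d.ι z1) * (k * g⁻¹)⁻¹ =
            k * c' * k⁻¹ * (k * (g⁻¹ * d.ι z1 * g⁻¹⁻¹) * k⁻¹) by simp only [c']; group,
          d.conj_z1_eq (inv_mem hg), hk1]
      rcases List.mem_append.1 h' with h2 | h2
      · exact d.Crit_not_zz h2 h1
      · simp only [List.mem_cons, List.not_mem_nil, or_false] at h2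
        rcases h2 with h2 | h2 | h2 | h2 <;> rw [h2] at h1
        · exact d.ne_one_of_conj misc.2.2.2.2.2.2.2.2.2.2.2.2.1 h1 rfl
        · exact d.zz_not_conj_z1 h1
        · exact d.zz_not_conj_z1 (h1.trans d.a1_conj.1.symm)
        · exact d.zz_not_conj_z1 (h1.trans d.a1_conj.2.symm)
    · have hvZ : isZ (v * c2) = true := by
        rcases d.conj_a1_cases hk.1 hv hve.symm with rfl | rfl
        · exact h'.1
        · exact h'.2
      have hvT : v ∈ TW := by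
        rcases d.conj_a1_cases hk.1 hv hve.symm with rfl | rfl
        · exact (subset_TW a1).2.2.2.2.2 misc.2.2.1
        · exact mul_mem ((subset_TW a1).2.2.2.2.2 misc.2.2.1) hz1
      refine d.Crit_not_zz hctC ((d.isZ_conj (mul_mem hvT hc2T) hvZ).trans (isConj_iff.2 ⟨g * k⁻¹, ?_⟩))
      rw [map_mul, map_mul, hve, hc2e, hte]
      simp only [c']
      group
  · exact absurd ((d.isZ_conj htT h).trans hc1.symm) d.zz_not_conj_z1
  · exact absurd ((d.isZ_conj (mul_mem htT hz1) h).trans hc2.symm) d.zz_not_conj_z1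

/-- **`C(z₁)` normalises `⟨z₁, a₁⟩`.** -/
theorem cent_z1_moves {g : G} (hg : g ∈ d.Cz) :
    g * d.ι a1 * g⁻¹ = d.ι a1 ∨ g * d.ι a1 * g⁻¹ = d.ι (a1 * z1) := by
  classical
  haveI : Fact (Nat.Prime 2) := ⟨Nat.prime_two⟩
  set C := d.Cz
  obtain ⟨S, hS⟩ := d.exists_sylow_T0 (K := C) d.T0_le_cent le_rfl
  set Z := (Subgroup.zpowers (d.ι z1)).subgroupOf C with hZdef
  have hz2 : d.ι z1 * d.ι z1 = 1 := by rw [← map_mul, conj_facts.2.2.2.2.2, map_one]
  have hZmem : ∀ z : C, z ∈ Z → z = 1 ∨ (z : G) = d.ι z1 := by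
    intro z hz
    obtain ⟨i, hi⟩ := Subgroup.mem_zpowers_iff.1 (show (z : G) ∈ Subgroup.zpowers (d.ι z1) from hz)
    rcases Int.even_or_odd i with ⟨j, rfl⟩ | ⟨j, rfl⟩
    · left
      refine Subtype.ext ?_
      rw [← hi, ← two_mul, zpow_mul, zpow_two, hz2, one_zpow]
      rfl
    · right
      rw [← hi, zpow_add, zpow_mul, zpow_two, hz2, one_zpow, one_mul, zpow_one]
  have hZc : ∀ z ∈ Z, ∀ x : C, x * z = z * x := by
    intro z hz x
    rcases hZmem z hz with rfl | h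
    · rw [mul_one, one_mul]
    · refine Subtype.ext ?_
      show (x : G) * z = z * x
      rw [h]
      exact Subgroup.mem_centralizer_singleton_iff.1 x.2
  haveI : Z.Normal := ⟨fun z hz x => by rw [hZc z hz x, mul_inv_cancel_right]; exact hz⟩
  have hz1T : d.ι z1 ∈ d.im T0W := d.mem_im.2 ((subset_TW z1).1 misc_B.2.2.1)
  have hZS : Z ≤ (S : Subgroup C) := by
    intro z hz
    rcases hZmem z hz with rfl | h
    · exact one_mem _
    · obtain ⟨w, hw, hwe⟩ := hS.ge hz1T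
      rwa [Subtype.ext (hwe.trans h.symm) ] at hw
  set π := QuotientGroup.mk' Z
  have hπ : Function.Surjective π := QuotientGroup.mk'_surjective Z
  have hpre : ∀ y : C, π y ∈ (S : Subgroup C).map π → y ∈ (S : Subgroup C) := by
    rintro y ⟨s, hs, hsy⟩
    have h1 : s⁻¹ * y ∈ Z := QuotientGroup.eq.1 hsy
    have := mul_mem hs (hZS h1)
    rwa [mul_inv_cancel_left] at this
  have ha0 : d.ι a1 ∈ d.im T0W := d.mem_im.2 misc.2.2.1
  set A : C := ⟨d.ι a1, d.T0_le_cent ha0⟩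
  have hA1 : A ∉ Z := by
    intro h
    rcases hZmem A h with h' | h'
    · exact d.im_ι_ne V1_facts.2.2.2.2.2.2.2.1 (congrArg Subtype.val h')
    · exact V1_facts.2.2.2.2.2.2.2.2.1 (d.inj h')
  have hu : orderOf (π A) = 2 := by
    refine orderOf_eq_prime ?_ fun h => hA1 ((QuotientGroup.eq_one_iff A).1 h)
    rw [pow_two, ← map_mul, show A * A = 1 from Subtype.ext (by
      show d.ι a1 * d.ι a1 = 1
      rw [← map_mul, V1_facts.2.2.2.2.2.2.1, map_one]), map_one]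
  have hAS : A ∈ (S : Subgroup C) := by
    obtain ⟨w, hw, hwe⟩ := hS.ge ha0
    rwa [show w = A from Subtype.ext hwe] at hw
  obtain ⟨N, hN, hNodd, hcomm⟩ := Cfsg.Agent.S0215.result (S.mapSurjective hπ) (π A) hu
    (by rw [← SetLike.mem_coe, ← Sylow.coe_coe, Sylow.coe_mapSurjective]; exact ⟨A, hAS, rfl⟩)
    (by
      intro q hq
      obtain ⟨x, rfl⟩ := hπ q
      rw [← SetLike.mem_coe, ← Sylow.coe_coe, Sylow.coe_mapSurjective, SetLike.mem_coe, ← map_inv, ← map_mul,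
        ← map_mul] at hq
      rw [← map_inv, ← map_mul, ← map_mul, QuotientGroup.mk'_apply, QuotientGroup.mk'_apply, QuotientGroup.eq]
      have h1 : ((x * A * x⁻¹ : C) : G) ∈ d.im T0W := hS.le ⟨_, hpre _ hq, rfl⟩
      show ((x * A * x⁻¹ : C) : G)⁻¹ * (A : G) ∈ Subgroup.zpowers (d.ι z1)
      rcases d.isolated x.2 h1 with h | h
      · rw [show ((x * A * x⁻¹ : C) : G) = d.ι a1 from h, inv_mul_cancel]
        exact one_mem _
      · rw [show ((x * A * x⁻¹ : C) : G) = d.ι (a1 * z1) from h, map_mul, mul_inv_rev, mul_assoc]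
        show _ * ((d.ι a1)⁻¹ * d.ι a1) ∈ _
        rw [inv_mul_cancel, mul_one]
        exact inv_mem (Subgroup.mem_zpowers _))
  -- the odd normal subgroup is trivial
  haveI := hN
  have hNbot : N = ⊥ := by
    set N1 := N.comap π
    set Z' := Z.subgroupOf N1
    have hZ'p : IsPGroup 2 Z' := ((d.isPGroup_T0.to_le
      (Subgroup.zpowers_le.2 hz1T)).comap_subtype).comap_subtype
    have hidx : ¬ 2 ∣ Z'.index := by
      let φ : N1 →* N := (π.comp N1.subtype).codRestrict N fun x => x.2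
      have hker : φ.ker = Z' := by
        ext x
        rw [MonoidHom.mem_ker, Subgroup.mem_subgroupOf, ← QuotientGroup.eq_one_iff]
        exact Subtype.ext_iff
      rw [← hker, Subgroup.index_ker]
      exact fun h => Nat.not_even_iff_odd.2 (hNodd.of_dvd_nat (Subgroup.card_subgroup_dvd_card _))
        (even_iff_two_dvd.2 h)
    obtain ⟨K2, -, hK2, hmem2⟩ := exists_odd_part (hZ'p.toSylow hidx) (fun c _ =>
      Subgroup.mem_centralizer_iff.2 fun z hz => Subtype.ext (hZc _ hz (c : C)).symm)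
    set O := (K2.map N1.subtype).map C.subtype
    have hOcard : Nat.card O = Nat.card K2 := by
      rw [Subgroup.card_map_of_injective C.subtype_injective, Subgroup.card_map_of_injective N1.subtype_injective]
    have hO : O = ⊥ := by
      refine d.odd_trivial (Subgroup.map_subtype_le _) (fun c hc => ?_) (hOcard ▸ hK2)
      refine Baumann.mem_normalizer_of_forall ?_
      rintro _ ⟨_, ⟨w, hw, rfl⟩, rfl⟩
      refine ⟨⟨c, hc⟩ * (w : C) * ⟨c, hc⟩⁻¹,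
        ⟨⟨_, (inferInstance : N1.Normal).conj_mem _ w.2 ⟨c, hc⟩⟩, hmem2 _ ?_, rfl⟩, rfl⟩
      rw [Subgroup.orderOf_mk, orderOf_conjugate, Subgroup.orderOf_coe]
      exact Nat.coprime_two_right.2 (hK2.of_dvd_nat (Subgroup.orderOf_dvd_natCard _ hw))
    have hp : IsPGroup 2 N1 := by
      refine Balance.isPGroup_of_forall_coprime fun x hx hxo => ?_
      have h1 : C.subtype x ∈ O := ⟨x, ⟨⟨x, hx⟩, hmem2 _ (by rwa [Subgroup.orderOf_mk]), rfl⟩, rfl⟩
      rw [hO, Subgroup.mem_bot] at h1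
      exact Subtype.ext h1
    refine (Subgroup.eq_bot_iff_forall _).2 fun q hq => ?_
    obtain ⟨x, rfl⟩ := hπ q
    obtain ⟨k, hk⟩ := hp ⟨x, hq⟩
    refine orderOf_eq_one_iff.1 (Nat.eq_one_of_dvd_coprimes ?_
      (orderOf_dvd_of_pow_eq_one (n := 2 ^ k) ?_) (Subgroup.orderOf_dvd_natCard N hq))
    · exact Nat.Coprime.pow_left k (Nat.coprime_two_left.2 hNodd)
    · rw [← map_pow, show x ^ 2 ^ k = 1 from congrArg Subtype.val hk, map_one]
  have h := hcomm (π ⟨g, hg⟩)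
  rw [hNbot, Subgroup.mem_bot, ← map_inv, ← map_inv, ← map_mul, ← map_mul, ← map_mul,
    QuotientGroup.mk'_apply, QuotientGroup.eq_one_iff] at h
  rcases hZmem _ h with h' | h'
  · left
    have h2 : d.ι a1 * g * (d.ι a1)⁻¹ * g⁻¹ = 1 := congrArg Subtype.val h'
    calc g * d.ι a1 * g⁻¹ = (d.ι a1 * g * (d.ι a1)⁻¹ * g⁻¹)⁻¹ * d.ι a1 := by group
      _ = d.ι a1 := by rw [h2, inv_one, one_mul]
  · right
    have h2 : d.ι a1 * g * (d.ι a1)⁻¹ * g⁻¹ = d.ι z1 := h'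
    calc g * d.ι a1 * g⁻¹ = (d.ι a1 * g * (d.ι a1)⁻¹ * g⁻¹)⁻¹ * d.ι a1 := by group
      _ = (d.ι z1)⁻¹ * d.ι a1 := by rw [h2]
      _ = d.ι (a1 * z1) := by
        rw [inv_eq_of_mul_eq_one_right hz2, ← map_mul, V1_facts.2.2.2.2.2.1]

end Data

end Cfsg.Agent.Lib.WrS4QT
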