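import Cfsg.Agent.Lib.WrS4QT.EndFacts
import Cfsg.Agent.Lib.DihedralCentralizer.Classify

/-!
# The quotient of `C(⟨z₁, a₁⟩)` is simple of order 168 or 360
-/

set_option autoImplicit false
set_option linter.style.haveILetI false
set_option linter.unusedSectionVars false
set_option maxRecDepth 4000

open Cfsg

namespace Cfsg.Agent.Lib.WrS4QT

open W

namespace Data

variable {G : Type*} [Group G] [Finite G] (d : Data G)

/-- The centraliser of `⟨z₁, a₁⟩`. -/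
abbrev C1 : Subgroup G := Subgroup.centralizer (d.im V1W : Set G)

theorem mem_C1 {g : G} : g ∈ d.C1 ↔ g * d.ι z1 = d.ι z1 * g ∧ g * d.ι a1 = d.ι a1 * g := by
  rw [Subgroup.mem_centralizer_iff]
  refine ⟨fun h => ⟨(h _ (d.mem_im.2 V1_facts.2.1)).symm, (h _ (d.mem_im.2 V1_facts.2.2.1)).symm⟩, ?_⟩
  rintro ⟨h1, h2⟩ _ ⟨u, hu, rfl⟩
  rcases V1_facts.1 u hu with rfl | rfl | rfl | rfl
  · rw [map_one, one_mul, mul_one]
  · exact h1.symm
  · exact h2.symm
  · rw [map_mul, mul_assoc, ← h1, ← mul_assoc, ← h2, mul_assoc]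

theorem C1_le_Cz : d.C1 ≤ d.Cz := fun g hg =>
  Subgroup.mem_centralizer_singleton_iff.2 (d.mem_C1.1 hg).1

theorem mem_NV1 {g : G} (h1 : g * d.ι z1 * g⁻¹ ∈ d.im V1W) (h2 : g * d.ι a1 * g⁻¹ ∈ d.im V1W) :
    g ∈ Subgroup.normalizer (d.im V1W : Set G) := by
  refine Baumann.mem_normalizer_of_forall ?_
  rintro _ ⟨u, hu, rfl⟩
  rcases V1_facts.1 u hu with rfl | rfl | rfl | rfl
  · simp
  · exact h1
  · exact h2
  · rw [map_mul, show g * (d.ι a1 * d.ι z1) * g⁻¹ = g * d.ι a1 * g⁻¹ * (g * d.ι z1 * g⁻¹) by group]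
    exact mul_mem h2 h1

theorem Cz_le_NV1 : d.Cz ≤ Subgroup.normalizer (d.im V1W : Set G) := fun g hg => by
  refine d.mem_NV1 ?_ ?_
  · rw [d.conj_z1_eq hg]; exact d.mem_im.2 V1_facts.2.1
  · rcases d.cent_z1_moves hg with h | h <;> rw [h]
    · exact d.mem_im.2 V1_facts.2.2.1
    · exact d.mem_im.2 (mul_mem V1_facts.2.2.1 V1_facts.2.1)

theorem V1_le_C1 : d.im V1W ≤ d.C1 := by
  rintro _ ⟨u, hu, rfl⟩
  rw [d.mem_C1, ← map_mul, ← map_mul, ← map_mul, ← map_mul]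
  have := D1_facts u ((by decide +kernel : ∀ u : W, u ∈ V1W → u ∈ D1W) u hu)
  rw [this.2.1, this.2.2]
  exact ⟨rfl, rfl⟩

/-- The four-group inside its centraliser. -/
abbrev Vq : Subgroup d.C1 := (d.im V1W).subgroupOf d.C1

instance Vq_normal : d.Vq.Normal := by
  refine ⟨fun v hv g => ?_⟩
  have h : g * v = v * g := Subtype.ext (Subgroup.mem_centralizer_iff.1 g.2 _ hv).symm
  rw [h, mul_inv_cancel_right]
  exact hv

/-- The layer. -/
abbrev LQ := d.C1 ⧸ d.Vq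

/-- The projection. -/
abbrev rho : d.C1 →* d.LQ := QuotientGroup.mk' d.Vq

theorem rho_eq_one {g : d.C1} : d.rho g = 1 ↔ (g : G) ∈ d.im V1W :=
  (QuotientGroup.eq_one_iff g).trans Iff.rfl

/-- The second block inside the centraliser. -/
def blk : S4 →* d.C1 :=
  (d.ι.comp emb).codRestrict d.C1 fun b => d.mem_C1.2 (by
    show d.ι (emb b) * d.ι z1 = d.ι z1 * d.ι (emb b) ∧ d.ι (emb b) * d.ι a1 = d.ι a1 * d.ι (emb b)
    rw [← map_mul, ← map_mul, ← map_mul, ← map_mul, (emb_facts b).2.1, (emb_facts b).2.2.1]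
    exact ⟨rfl, rfl⟩)

theorem coe_blk (b : S4) : ((d.blk b : d.C1) : G) = d.ι (emb b) := rfl

/-- The second block in the layer. -/
def psi : S4 →* d.LQ := d.rho.comp d.blk

theorem psi_inj : Function.Injective d.psi := (injective_iff_map_eq_one _).2 fun b hb =>
  (emb_facts b).1 (d.mem_im.1 (d.rho_eq_one.1 hb))

theorem exists_Y : ∃ Y : d.C1, (Y : G) ∈ d.NB ∧ (Y : G) * d.ι z2 * (Y : G)⁻¹ = d.ι x2 := by
  obtain ⟨-, -, y, hyN, hy1, hy2⟩ := d.five
  have hyC : y ∈ d.Cz := Subgroup.mem_centralizer_singleton_iff.2 hy1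
  rcases d.cent_z1_moves hyC with h | h
  · exact ⟨⟨y, d.mem_C1.2 ⟨hy1, mul_inv_eq_iff_eq_mul.1 h⟩⟩, hyN, hy2⟩
  · have hx1 : d.ι x1 * d.ι z1 = d.ι z1 * d.ι x1 := by rw [← map_mul, ← map_mul, x1_facts.2.1]
    refine ⟨⟨y * d.ι x1, d.mem_C1.2 ⟨?_, ?_⟩⟩, mul_mem hyN (d.mem_NB_of_BW x1_facts.2.2.2.2), ?_⟩
    · rw [mul_assoc, hx1, ← mul_assoc, hy1, mul_assoc]
    · refine mul_inv_eq_iff_eq_mul.1 ?_
      rw [show y * d.ι x1 * d.ι a1 * (y * d.ι x1)⁻¹ = y * (d.ι x1 * d.ι a1 * (d.ι x1)⁻¹) * y⁻¹ by group,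
        ← map_inv, ← map_mul, ← map_mul, x1_facts.1, map_mul,
        show y * (d.ι a1 * d.ι z1) * y⁻¹ = y * d.ι a1 * y⁻¹ * (y * d.ι z1 * y⁻¹) by group, h,
        d.conj_z1_eq hyC, ← map_mul, mul_assoc, conj_facts.2.2.2.2.2, mul_one]
    · show y * d.ι x1 * d.ι z2 * (y * d.ι x1)⁻¹ = _
      rw [show y * d.ι x1 * d.ι z2 * (y * d.ι x1)⁻¹ = y * (d.ι x1 * d.ι z2 * (d.ι x1)⁻¹) * y⁻¹ by group,
        ← map_mul, x1_facts.2.2.1, map_mul, mul_inv_cancel_right, hy2]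

theorem card_D1 : Nat.card (d.im D1W) = 32 := by rw [card_im, card_sub, D1_card.1]

theorem exists_sylow_C1 : ∃ S : Sylow 2 d.C1, (S : Subgroup d.C1).map d.C1.subtype = d.im D1W := by
  haveI : Fact (Nat.Prime 2) := ⟨Nat.prime_two⟩
  have hle : d.im D1W ≤ d.C1 := by
    rintro _ ⟨u, hu, rfl⟩
    rw [d.mem_C1, ← map_mul, ← map_mul, ← map_mul, ← map_mul, (D1_facts u hu).2.1, (D1_facts u hu).2.2]
    exact ⟨rfl, rfl⟩
  have hp : IsPGroup 2 (d.im D1W) := d.isPGroup_T0.to_le (Subgroup.map_mono fun u hu => (D1_facts u hu).1)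
  obtain ⟨S, hS⟩ := (hp.comap_subtype (K := d.C1)).exists_le_sylow
  refine ⟨S, (Subgroup.eq_of_le_of_card_ge
    (show d.im D1W ≤ (S : Subgroup d.C1).map d.C1.subtype from fun x hx => ⟨⟨x, hle hx⟩, hS hx, rfl⟩) ?_).symm⟩
  obtain ⟨c, hc, hcU⟩ := d.cent_z1_into_T0 (S.isPGroup'.map d.C1.subtype)
    ((Subgroup.map_subtype_le _).trans d.C1_le_Cz)
  have hcD : cj c ((S : Subgroup d.C1).map d.C1.subtype) ≤ d.im D1W := by
    intro g hg
    obtain ⟨t, ht, hte⟩ := hcU hg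
    have hgC : g ∈ d.C1 := by
      obtain ⟨s, hs, rfl⟩ := hg
      exact (Subgroup.mem_normalizer_iff.1 (normalizer_cent_le (d.Cz_le_NV1) hc) s).1
        (Subgroup.map_subtype_le _ hs)
    rw [← hte] at hgC ⊢
    refine d.mem_im.2 (split_T0 t (mem_TL ((subset_TW t).2.2.2.2.2 ht)) ht (d.inj ?_)).1
    rw [map_mul, map_mul]
    exact (d.mem_C1.1 hgC).2
  rw [Nat.card_congr (Subgroup.equivMapOfInjective ((S : Subgroup d.C1).map d.C1.subtype)
    (MulAut.conj c).toMonoidHom (MulAut.conj c).injective).toEquiv]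
  exact Subgroup.card_le_of_le hcD

theorem not_sixteen : ¬ 16 ∣ Nat.card d.LQ := by
  haveI : Fact (Nat.Prime 2) := ⟨Nat.prime_two⟩
  intro h
  obtain ⟨S, hS⟩ := d.exists_sylow_C1
  have h64 : 2 ^ 6 ∣ Nat.card d.C1 := by
    rw [Subgroup.card_eq_card_quotient_mul_card_subgroup d.Vq,
      Nat.card_congr (Subgroup.subgroupOfEquivOfLe d.V1_le_C1).toEquiv, card_im, card_sub, D1_card.2]
    rw [show 2 ^ 6 = 16 * 4 from rfl]
    exact Nat.mul_dvd_mul h (dvd_refl 4)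
  have h5 := S.card_eq_multiplicity
  rw [show Nat.card (S : Subgroup d.C1) = 2 ^ 5 by
    rw [Nat.card_congr (Subgroup.equivMapOfInjective (S : Subgroup d.C1) d.C1.subtype
      d.C1.subtype_injective).toEquiv, hS, d.card_D1]
    rfl] at h5
  have h2 := (Nat.Prime.pow_dvd_iff_le_factorization Nat.prime_two Nat.card_pos.ne').1 h64
  have h3 := Nat.pow_right_injective le_rfl h5
  omega

theorem psi_delta_comm (p : DihedralGroup 4) :
    d.psi (S4.deltaHom p) * d.psi S4.z = d.psi S4.z * d.psi (S4.deltaHom p) := by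
  rw [← map_mul, ← map_mul, show S4.deltaHom p * S4.z = S4.z * S4.deltaHom p from (S4.delta_facts.2.1 p).2]

theorem exists_delta {l : d.LQ} (hl : l * d.psi S4.z = d.psi S4.z * l) :
    ∃ p, d.psi (S4.deltaHom p) = l := by
  obtain ⟨g, rfl⟩ := QuotientGroup.mk'_surjective d.Vq l
  have hz2 : (d.blk S4.z : G) = d.ι z2 := by rw [coe_blk, emb_elements.1]
  have h2 : d.rho ((d.blk S4.z)⁻¹ * (g * d.blk S4.z * g⁻¹)) = 1 := by
    rw [map_mul, map_mul, map_mul, map_inv, map_inv,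
      show d.rho g * d.rho (d.blk S4.z) = d.rho (d.blk S4.z) * d.rho g from hl, mul_inv_cancel_right,
      inv_mul_cancel]
  obtain ⟨v, hv, hve⟩ := d.rho_eq_one.1 h2
  have hgz : (g : G) * d.ι z2 * (g : G)⁻¹ = d.ι (z2 * v) := by
    rw [map_mul, hve, Subgroup.coe_mul, Subgroup.coe_inv, Subgroup.coe_mul, Subgroup.coe_mul, Subgroup.coe_inv,
      hz2, mul_inv_cancel_left]
  have hc : (g : G) * d.ι z2 = d.ι z2 * g := by
    by_cases hv1 : v = 1
    · rw [hv1, mul_one] at hgz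
      exact mul_inv_eq_iff_eq_mul.1 hgz
    · exact absurd ((d.isZ_conj (z2_class v hv hv1).2 (z2_class v hv hv1).1).trans
        (d.conj_z2.trans (isConj_iff.2 ⟨_, hgz⟩)).symm) d.zz_not_conj_z1
  obtain ⟨t, ht, hte⟩ := d.cent_pair (d.mem_C1.1 g.2).1 hc
  obtain ⟨-, hv', hD⟩ := split_T0 t (mem_TL ((subset_TW t).2.2.2.2.2 ht)) ht (d.inj (by
    rw [map_mul, map_mul, hte]; exact (d.mem_C1.1 g.2).2))
  obtain ⟨p, hp⟩ := S4.delta_facts.2.2 t.b hD
  refine ⟨p, ?_⟩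
  show d.rho (d.blk (S4.deltaHom p)) = d.rho g
  rw [show S4.deltaHom p = t.b from hp]
  symm
  rw [← mul_inv_eq_one, ← map_inv, ← map_mul, d.rho_eq_one, Subgroup.coe_mul, Subgroup.coe_inv, coe_blk, ← hte,
    ← map_inv, ← map_mul]
  exact d.mem_im.2 hv'

/-- The layer is simple, of order 168 or 360. -/
theorem layer : IsSimpleGroup d.LQ ∧ (Nat.card d.LQ = 168 ∨ Nat.card d.LQ = 360) := by
  haveI : Fact (Nat.Prime 2) := ⟨Nat.prime_two⟩
  have hord : orderOf (d.psi S4.z) = 2 := by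
    refine orderOf_eq_prime (by rw [pow_two, ← map_mul, S4.basics.2.2.1, map_one]) fun h => ?_
    exact S4.block_facts.2.2.2.2.2.2.2.1 (d.psi_inj (h.trans (map_one _).symm))
  have hrange : (d.psi.comp S4.deltaHom).range = Subgroup.centralizer ({d.psi S4.z} : Set d.LQ) := by
    refine le_antisymm ?_ fun l hl => d.exists_delta (Subgroup.mem_centralizer_singleton_iff.1 hl)
    rintro _ ⟨p, rfl⟩
    exact Subgroup.mem_centralizer_singleton_iff.2 (d.psi_delta_comm p)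
  have hinj : Function.Injective (d.psi.comp S4.deltaHom) := (injective_iff_map_eq_one _).2 fun p hp =>
    S4.delta_facts.1 p (d.psi_inj (hp.trans (map_one _).symm))
  have e := ((MonoidHom.ofInjective hinj).trans (MulEquiv.subgroupCongr hrange)).symm
  refine DihedralCentralizer.simple_order hord e fun Hs hHs => ?_
  have hxa : d.psi S4.z ∈ Hs := by
    rw [← S4.block_facts.1, map_mul]
    exact Subgroup.mul_self_mem_of_index_two hHs _
  haveI := Subgroup.normal_of_index_eq_two hHs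
  have hx : d.psi S4.x ∈ Hs := by
    obtain ⟨Y, -, hY⟩ := d.exists_Y
    have h : d.psi S4.x = d.rho Y * d.psi S4.z * (d.rho Y)⁻¹ := by
      show d.rho (d.blk S4.x) = d.rho Y * d.rho (d.blk S4.z) * (d.rho Y)⁻¹
      rw [← map_inv, ← map_mul, ← map_mul]
      congr 1
      refine Subtype.ext ?_
      rw [Subgroup.coe_mul, Subgroup.coe_mul, Subgroup.coe_inv, coe_blk, coe_blk, emb_elements.1, emb_elements.2.1,
        hY]
    rw [h]
    exact Subgroup.Normal.conj_mem inferInstance _ hxa _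
  have ha : d.psi S4.a ∈ Hs := by
    obtain ⟨c, hc⟩ := S4.block_facts.2.2.1
    rw [← hc, map_mul, map_mul, map_inv]
    exact Subgroup.Normal.conj_mem inferInstance _ hxa _
  have hle : (d.psi.comp S4.deltaHom).range ≤ Hs := by
    have hxa' : d.psi (S4.x * S4.a) ∈ Hs := by rw [map_mul]; exact mul_mem hx ha
    rintro _ ⟨p, rfl⟩
    show d.psi (S4.delta p) ∈ Hs
    cases p with
    | r i =>
      show d.psi ((S4.x * S4.a) ^ i.val) ∈ Hs
      rw [map_pow]; exact pow_mem hxa' _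
    | sr i =>
      show d.psi (S4.x * (S4.x * S4.a) ^ i.val) ∈ Hs
      rw [map_mul, map_pow]; exact mul_mem hx (pow_mem hxa' _)
  have h8 : Nat.card (d.psi.comp S4.deltaHom).range = 8 := by
    rw [← Nat.card_congr (MonoidHom.ofInjective hinj).toEquiv, DihedralGroup.nat_card]
  refine d.not_sixteen ?_
  rw [← Subgroup.card_mul_index Hs, hHs, show 16 = 8 * 2 from rfl]
  exact Nat.mul_dvd_mul_right (h8 ▸ Subgroup.card_dvd_of_le hle) 2

/-- An element of `N(B)` in the centraliser moves the four-group `⟨z₂, x₂⟩` into itself. -/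
theorem move_W {g : d.C1} (hg : (g : G) ∈ d.NB) {b : S4} (hb : S4.inW b = true) :
    ∃ w, S4.inW w = true ∧ d.rho g * d.psi b * (d.rho g)⁻¹ = d.psi w := by
  obtain ⟨v, hv, hve⟩ := d.NB_move hg (emb_W b hb)
  have hvC : d.ι v ∈ d.C1 := by
    rw [← hve]
    exact mul_mem (mul_mem g.2 (d.blk b).2) (inv_mem g.2)
  obtain ⟨hv', hw⟩ := split_BW v (mem_TL (BW_le_TW hv)) hv (d.inj (by
    rw [map_mul, map_mul]; exact (d.mem_C1.1 hvC).2))
  refine ⟨v.b, hw, ?_⟩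
  show d.rho g * d.rho (d.blk b) * (d.rho g)⁻¹ = d.rho (d.blk v.b)
  rw [← map_inv, ← map_mul, ← map_mul, ← mul_inv_eq_one, ← map_inv, ← map_mul, d.rho_eq_one, Subgroup.coe_mul,
    Subgroup.coe_mul, Subgroup.coe_mul, Subgroup.coe_inv, Subgroup.coe_inv, coe_blk, coe_blk, hve, ← map_inv,
    ← map_mul]
  exact d.mem_im.2 hv'

end Data

end Cfsg.Agent.Lib.WrS4QT
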