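import Mathlib.GroupTheory.Perm.Basic
import Mathlib.GroupTheory.Perm.Fin
import Mathlib.GroupTheory.GroupAction.Pointwise
import Mathlib.Algebra.Group.Subgroup.Finite
import Mathlib.Tactic
import Cfsg.Prelude.Def_QuasithinSetup

/-!
# A computable model of `S₄ ≀ Z₂`

The elements of `S₄` are numbered in lexicographic order of their lists of values; products and
inverses are read off three numerals.
-/

set_option autoImplicit false

open scoped Pointwise

namespace Cfsg.Agent.Lib.WrS4QT

/-- The symmetric group of degree four, by numbers. -/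
@[ext]
structure S4 where
  v : Fin 24
  deriving DecidableEq

namespace S4

/-- The product table. -/
def tblMul : Nat := 963083904067687740382735603551689858979262908457194405886049381333969802301183085837553985273473854330919290650503943115840069356509638955686872359685717332808901270679562285084298514669757260143135839602817718328491187159082064147838148221860841857298935111617501776737072422980980029411854874636928447370107983835290263782952548816511020583812907530610125653564010220842482491962004376120388759761678501504925865068116183498263901531782434546190694459208408295563000458219589420019657733870239199217371120552283113993841669272690250937181101628696532967492507089921218779169242377132803342235395010373055173633197438399586503732527643592394751693744750901567759454225611815304897823538575145718919194832468029427789693900593094299686717877973378999991997074262632222442029776699593767455265065230686956072508893019315770005973264241629444791670033435835305658400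

/-- The inverse table. -/
def tblInv : Nat := 978321207349091352592539713606387744

/-- The values. -/
def tblApp : Nat := 669236436005411928080145373044091295208890640391302853860

def equiv : S4 ≃ Fin 24 := ⟨S4.v, S4.mk, fun _ => rfl, fun _ => rfl⟩

instance : Fintype S4 := Fintype.ofEquiv _ equiv.symm

instance : Mul S4 :=
  ⟨fun a b => ⟨⟨(tblMul >>> (5 * (24 * a.v.val + b.v.val))) % 32 % 24, Nat.mod_lt _ (by norm_num)⟩⟩⟩

instance : One S4 := ⟨⟨0⟩⟩

instance : Inv S4 := ⟨fun a => ⟨⟨(tblInv >>> (5 * a.v.val)) % 32 % 24, Nat.mod_lt _ (by norm_num)⟩⟩⟩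

theorem assoc' : ∀ a b c : S4, a * b * c = a * (b * c) := by decide +kernel
theorem one_mul' : ∀ a : S4, 1 * a = a := by decide +kernel
theorem mul_one' : ∀ a : S4, a * 1 = a := by decide +kernel
theorem inv_mul' : ∀ a : S4, a⁻¹ * a = 1 := by decide +kernel

instance : Group S4 where
  mul_assoc := assoc'
  one_mul := one_mul'
  mul_one := mul_one'
  inv_mul_cancel := inv_mul'

/-- The value at a point. -/
def app (a : S4) (i : Fin 4) : Fin 4 :=
  ⟨(tblApp >>> (2 * (4 * a.v.val + i.val))) % 4, Nat.mod_lt _ (by norm_num)⟩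

theorem app_inv : ∀ (a : S4) (i : Fin 4), app a⁻¹ (app a i) = i ∧ app a (app a⁻¹ i) = i := by
  decide +kernel

theorem app_mul : ∀ (a b : S4) (i : Fin 4), app (a * b) i = app a (app b i) := by decide +kernel

theorem app_inj : ∀ a : S4, (∀ i, app a i = i) → a = 1 := by decide +kernel

/-- The action on four points. -/
def toPerm : S4 →* Equiv.Perm (Fin 4) where
  toFun a := ⟨app a, app a⁻¹, fun i => (app_inv a i).1, fun i => (app_inv a i).2⟩
  map_one' := Equiv.ext fun i => by
    show app 1 i = i
    exact (by decide +kernel : ∀ i : Fin 4, app 1 i = i) i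
  map_mul' a b := Equiv.ext fun i => app_mul a b i

theorem toPerm_injective : Function.Injective toPerm := (injective_iff_map_eq_one _).2 fun a h =>
  app_inj a fun i => Equiv.congr_fun h i

theorem toPerm_surjective : Function.Surjective toPerm := by
  refine ((Fintype.bijective_iff_injective_and_card _).2 ⟨toPerm_injective, ?_⟩).2
  rw [Fintype.card_perm, Fintype.card_fin, Fintype.card_congr equiv, Fintype.card_fin]
  decide

def mem (m : Nat) (a : S4) : Bool := m.testBit a.v.val

/-- The dihedral Sylow subgroup. -/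
def inD (a : S4) : Bool := mem 12779715 a
/-- The normal four-group. -/
def inV (a : S4) : Bool := mem 8454273 a
/-- The other four-group of the Sylow subgroup. -/
def inW (a : S4) : Bool := mem 195 a
/-- The parity. -/
def odd (a : S4) : Bool := mem 6710886 a

def x : S4 := ⟨6⟩
def z : S4 := ⟨7⟩
def a : S4 := ⟨16⟩
def az : S4 := ⟨23⟩
def xz : S4 := ⟨1⟩
def y : S4 := ⟨3⟩

theorem basics : a * z = az ∧ x * z = xz ∧ z * z = 1 ∧ a * a = 1 ∧ x * x = 1 ∧ y * y * y = 1 ∧
    a * x * a * x = z ∧ y * z * y⁻¹ ≠ z := by decide +kernel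

end S4

/-- `(a, b, s)` stands for `(a, b)` times the exchange when `s` holds. -/
@[ext]
structure W where
  a : S4
  b : S4
  s : Bool
  deriving DecidableEq

namespace W

instance : Mul W :=
  ⟨fun u v => if u.s then ⟨u.a * v.b, u.b * v.a, !v.s⟩ else ⟨u.a * v.a, u.b * v.b, v.s⟩⟩

instance : One W := ⟨⟨1, 1, false⟩⟩

instance : Inv W := ⟨fun u => if u.s then ⟨u.b⁻¹, u.a⁻¹, true⟩ else ⟨u.a⁻¹, u.b⁻¹, false⟩⟩

theorem mul_false (a b : S4) (v : W) : (⟨a, b, false⟩ : W) * v = ⟨a * v.a, b * v.b, v.s⟩ := rfl

theorem mul_true (a b : S4) (v : W) : (⟨a, b, true⟩ : W) * v = ⟨a * v.b, b * v.a, !v.s⟩ := rfl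

theorem one_eq : (1 : W) = ⟨1, 1, false⟩ := rfl

instance : Group W where
  mul_assoc := fun ⟨a, b, s⟩ ⟨a', b', s'⟩ ⟨a'', b'', s''⟩ => by
    cases s <;> cases s' <;> simp [mul_false, mul_true, mul_assoc]
  one_mul := fun ⟨a, b, s⟩ => by simp [one_eq, mul_false]
  mul_one := fun ⟨a, b, s⟩ => by cases s <;> simp [one_eq, mul_false, mul_true]
  inv_mul_cancel := fun ⟨a, b, s⟩ => by
    cases s
    · show (⟨a⁻¹, b⁻¹, false⟩ : W) * _ = _
      simp [one_eq, mul_false]
    · show (⟨b⁻¹, a⁻¹, true⟩ : W) * _ = _
      simp [one_eq, mul_true]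

def equiv : W ≃ S4 × S4 × Bool := ⟨fun u => (u.a, u.b, u.s), fun u => ⟨u.1, u.2.1, u.2.2⟩, fun _ => rfl, fun _ => rfl⟩

instance : Fintype W := Fintype.ofEquiv _ equiv.symm

/-- The exchange of the two blocks. -/
def sPerm : Equiv.Perm (Fin 4 ⊕ Fin 4) := Equiv.sumComm _ _

/-- The action on eight points. -/
def toPerm : W →* Equiv.Perm (Fin 4 ⊕ Fin 4) where
  toFun u := Equiv.sumCongr (S4.toPerm u.a) (S4.toPerm u.b) * (if u.s then sPerm else 1)
  map_one' := by ext (i | i) <;> simp [one_eq]
  map_mul' := by
    rintro ⟨a, b, s⟩ ⟨a', b', s'⟩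
    cases s <;> cases s' <;> ext (i | i) <;>
      simp [mul_false, mul_true, sPerm, Equiv.Perm.mul_apply, map_mul]

theorem toPerm_injective : Function.Injective toPerm := by
  refine (injective_iff_map_eq_one _).2 ?_
  rintro ⟨a, b, s⟩ h
  cases s
  · have ha : S4.toPerm a = 1 := Equiv.ext fun i => by
      simpa [toPerm] using Equiv.congr_fun h (Sum.inl i)
    have hb : S4.toPerm b = 1 := Equiv.ext fun i => by
      simpa [toPerm] using Equiv.congr_fun h (Sum.inr i)
    rw [S4.toPerm_injective (ha.trans (map_one _).symm), S4.toPerm_injective (hb.trans (map_one _).symm)]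
    rfl
  · have h1 := Equiv.congr_fun h (Sum.inl 0)
    simp [toPerm, sPerm] at h1

theorem toPerm_range : toPerm.range = Cfsg.blockStabilizerS4wr2 := by
  set P : Set (Set (Fin 4 ⊕ Fin 4)) :=
    {Set.range (Sum.inl : Fin 4 → Fin 4 ⊕ Fin 4), Set.range (Sum.inr : Fin 4 → Fin 4 ⊕ Fin 4)}
  have hs : sPerm • P = P := by
    have h1 : sPerm • Set.range (Sum.inl : Fin 4 → Fin 4 ⊕ Fin 4) = Set.range Sum.inr := by
      ext (i | i) <;> simp [Set.mem_smul_set, sPerm]
    have h2 : sPerm • Set.range (Sum.inr : Fin 4 → Fin 4 ⊕ Fin 4) = Set.range Sum.inl := by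
      ext (i | i) <;> simp [Set.mem_smul_set, sPerm]
    simp only [P, Set.smul_set_insert, Set.smul_set_singleton, h1, h2, Set.pair_comm]
  have hc : ∀ p q : Equiv.Perm (Fin 4), Equiv.sumCongr p q • P = P := by
    intro p q
    have h1 : Equiv.sumCongr p q • Set.range (Sum.inl : Fin 4 → Fin 4 ⊕ Fin 4) = Set.range Sum.inl := by
      ext (i | i)
      · simpa [Set.mem_smul_set] using ⟨p.symm i, by simp⟩
      · simp [Set.mem_smul_set]
    have h2 : Equiv.sumCongr p q • Set.range (Sum.inr : Fin 4 → Fin 4 ⊕ Fin 4) = Set.range Sum.inr := by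
      ext (i | i)
      · simp [Set.mem_smul_set]
      · simpa [Set.mem_smul_set] using ⟨q.symm i, by simp⟩
    simp only [P, Set.smul_set_insert, Set.smul_set_singleton, h1, h2]
  refine le_antisymm ?_ fun σ hσ => ?_
  · rintro _ ⟨⟨a, b, s⟩, rfl⟩
    show toPerm ⟨a, b, s⟩ • P = P
    cases s
    · simpa [toPerm] using hc (S4.toPerm a) (S4.toPerm b)
    · show (Equiv.sumCongr _ _ * sPerm) • P = P
      rw [mul_smul, hs, hc]
  · have hσ' : σ • P = P := hσ
    have key : ∀ τ : Equiv.Perm (Fin 4 ⊕ Fin 4),
        Set.MapsTo τ (Set.range Sum.inl) (Set.range Sum.inl) → τ ∈ toPerm.range := by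
      intro τ hτ
      obtain ⟨⟨p, q⟩, rfl⟩ := Equiv.Perm.mem_sumCongrHom_range_of_perm_mapsTo_inl hτ
      obtain ⟨a, rfl⟩ := S4.toPerm_surjective p
      obtain ⟨b, rfl⟩ := S4.toPerm_surjective q
      exact ⟨⟨a, b, false⟩, by simp [toPerm]⟩
    have hmem : σ • Set.range (Sum.inl : Fin 4 → Fin 4 ⊕ Fin 4) ∈ P :=
      hσ' ▸ Set.smul_mem_smul_set (Set.mem_insert _ _)
    rcases hmem with h | h
    · refine key σ fun i hi => ?_
      rw [← h]
      exact Set.smul_mem_smul_set hi
    · have h' : σ • Set.range (Sum.inl : Fin 4 → Fin 4 ⊕ Fin 4) = Set.range Sum.inr := h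
      have h1 : sPerm * σ ∈ toPerm.range := key _ fun i hi => by
        have h2 : σ i ∈ Set.range (Sum.inr : Fin 4 → Fin 4 ⊕ Fin 4) := h' ▸ Set.smul_mem_smul_set hi
        obtain ⟨j, hj⟩ := h2
        exact ⟨j, by rw [Equiv.Perm.mul_apply, ← hj]; rfl⟩
      have h2 : sPerm ∈ toPerm.range := ⟨⟨1, 1, true⟩, by ext (i | i) <;> simp [toPerm]⟩
      have h3 := mul_mem (inv_mem h2) h1
      rwa [inv_mul_cancel_left] at h3

/-- The model is the group of the statement. -/
noncomputable def toStab : W ≃* ↥Cfsg.blockStabilizerS4wr2 :=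
  (MonoidHom.ofInjective toPerm_injective).trans (MulEquiv.subgroupCongr toPerm_range)

end W

end Cfsg.Agent.Lib.WrS4QT
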