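import Cfsg.Agent.Lib.WrS4QT.Sub

/-!
# The involutions of the Sylow subgroup
-/

set_option autoImplicit false
set_option maxRecDepth 4000

namespace Cfsg.Agent.Lib.WrS4QT.W

def xx : W := ⟨S4.x, S4.x, false⟩
def ax : W := ⟨S4.a, S4.x, false⟩
def xa : W := ⟨S4.x, S4.a, false⟩

/-- The class of `(x, x)`. -/
def XXl : List W :=
  [xx, ⟨S4.x, S4.xz, false⟩, ⟨S4.xz, S4.x, false⟩, ⟨S4.xz, S4.xz, false⟩]

/-- The class of `(a, x)`. -/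
def AXl : List W :=
  [ax, ⟨S4.a, S4.xz, false⟩, ⟨S4.az, S4.x, false⟩, ⟨S4.az, S4.xz, false⟩,
   xa, ⟨S4.xz, S4.a, false⟩, ⟨S4.x, S4.az, false⟩, ⟨S4.xz, S4.az, false⟩]

/-- The involutions outside the base. -/
def Sl : List W := DL.map fun d => ⟨d, d⁻¹, true⟩

theorem classify : ∀ u ∈ TL, u * u = 1 → u = 1 ∨ u = z1 ∨ u = z2 ∨ u = zz ∨
    (∃ m ∈ ML, m * u * m⁻¹ = zz) ∨ (∃ m ∈ ML, m * (zz * u) * m⁻¹ = zz) ∨
    (∃ t ∈ TL, t * u * t⁻¹ = x1) ∨ (∃ t ∈ TL, t * (zz * u) * t⁻¹ = x1) ∨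
    u ∈ XXl ∨ u ∈ AXl ∨ u ∈ Sl := by
  decide +kernel

theorem mem_TW_of_TL {t : W} (h : t ∈ TL) : t ∈ TW :=
  (by decide +kernel : ∀ t ∈ TL, t ∈ TW) t h

theorem class_conj :
    (∀ u ∈ XXl, u ∈ TW ∧ ∃ t ∈ TL, t * u * t⁻¹ = xx ∧ t⁻¹ * xx * t = u) ∧
    (∀ u ∈ AXl, u ∈ TW ∧ ∃ t ∈ TL, t * u * t⁻¹ = ax ∧ t⁻¹ * ax * t = u) ∧
    (∀ u ∈ Sl, u ∈ TW ∧ ∃ t ∈ TL, t * u * t⁻¹ = sw ∧ t⁻¹ * sw * t = u) := by
  decide +kernel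

/-- The possible values of the class of `z₁` in the centraliser of `z`. -/
def RL (px pa : Bool) : List W :=
  [z1, z2] ++ (if px then XXl else []) ++ (if pa then AXl else []) ++ Sl

theorem RL_count : ∀ px pa : Bool,
    ((RL px pa).filter fun u => decide (u * z1 = z1 * u)).length ≠
      ((RL px pa).filter fun u => decide (u * sw = sw * u)).length ∧ (RL px pa).Nodup := by
  decide +kernel

theorem comm_facts : ax * xa ≠ xa * ax ∧ (∀ u ∈ XXl ++ AXl, u * z1 = z1 * u) ∧ xa ∈ AXl ∧ ax ∈ AXl ∧ sw ∈ Sl ∧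
    xx ∈ XXl ∧ xx ∈ TW := by
  decide +kernel

theorem comm_B : ∀ u ∈ TL, u ∈ BW → u * xx = xx * u ∧ u * z1 = z1 * u ∧ u * z2 = z2 * u := by
  decide +kernel

theorem comm_BX : ∀ u ∈ TL, u ∈ BW → ∀ v ∈ XXl, u * v = v * u := by
  decide +kernel

theorem cent_xx : ∀ u ∈ TL, u ∈ T0W → u * xx = xx * u → u ∈ BW := by
  decide +kernel

theorem s_comm : ∀ u ∈ TL, u.s = true →
    a1 * (x1 * u * x1⁻¹ * u⁻¹) * a1⁻¹ * (x1 * u * x1⁻¹ * u⁻¹)⁻¹ = z1 := by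
  decide +kernel

theorem B_gen : ∀ u ∈ TL, u ∈ BW → ∃ i j k l : Bool,
    u = (if i then z1 else 1) * (if j then z2 else 1) * (if k then x1 else 1) * (if l then x2 else 1) := by
  decide +kernel

theorem conj_facts : sw * z1 * sw⁻¹ = z2 ∧ sw * x1 * sw⁻¹ = x2 ∧ zz * z1 = z2 ∧ zz * zz = 1 ∧
    x1 * z1 * x1⁻¹ = z1 ∧ z1 * z1 = 1 := by
  decide +kernel

end Cfsg.Agent.Lib.WrS4QT.W
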