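import Cfsg.Agent.Lib.WrS4QT.Facts
import Cfsg.Agent.Lib.WrS4QT.ZFacts

/-!
# Finite facts about `B` and the subgroups of index two
-/

set_option autoImplicit false
set_option maxRecDepth 4000

namespace Cfsg.Agent.Lib.WrS4QT.W

/-- The rows through `x₁` and `x₂`. -/
def RXl : List W := [x1, x1 * z1, x2, x2 * z2]

/-- The classes of `(x, z)` and `(z, x)`. -/
def ZXl : List W := [x1 * z2, x1 * z1 * z2, x2 * z1, x2 * z2 * z1]

theorem RX_conj : ∀ u ∈ RXl, u ∈ BW ∧ ∃ t ∈ TL, t * x1 * t⁻¹ = u := by decide +kernel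

theorem ZX_conj : ∀ u ∈ ZXl, u ∈ BW ∧ ∃ t ∈ TL, t * (x1 * z2) * t⁻¹ = u := by decide +kernel

theorem XX_conj : ∀ u ∈ XXl, u ∈ BW ∧ ∃ t ∈ TL, t * xx * t⁻¹ = u := by decide +kernel

theorem B_cases : ∀ u ∈ TL, u ∈ BW →
    u = 1 ∨ u = z1 ∨ u = z2 ∨ u = zz ∨ u ∈ RXl ∨ u ∈ ZXl ∨ u ∈ XXl := by decide +kernel

/-- The parity whose kernel is the second subgroup of index two. -/
def par (u : W) : Bool := xor (xor (S4.odd u.a) (S4.odd u.b)) u.s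

theorem par_mul : ∀ u ∈ TL, ∀ v ∈ TL, par (u * v) = xor (par u) (par v) := by decide +kernel

theorem par_facts : par 1 = false ∧ par x1 = true ∧ x1 * x1 = 1 ∧ x1 ≠ 1 ∧ sw * sw = 1 ∧ sw ≠ 1 ∧ sw ∉ T0W ∧
    (TL.filter fun u => !par u).length = 64 ∧ zz * z1 = z2 ∧ zz * z2 = z1 := by
  decide +kernel

theorem T1_involutions : ∀ u ∈ TL, par u = false → u * u = 1 → u = 1 ∨ u ∈ XXl ∨
    ((∃ m ∈ ML, m * u * m⁻¹ = z1) ∨ ∃ m ∈ ML, m * u * m⁻¹ = zz) := by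
  decide +kernel

theorem T0_involutions : ∀ u ∈ TL, u ∈ T0W → u * u = 1 → ∃ m ∈ ML, m * u * m⁻¹ ∈ BW := by decide +kernel

theorem y2_x1 : y2 * x1 = x1 * y2 ∧ y2 * x2 * y2⁻¹ ∉ BW ∧ x2 ∈ BW ∧ x1 ∈ BW := by decide +kernel

theorem cent_x1_card : (TL.filter fun u => decide (u * x1 = x1 * u)).length = 32 := by decide +kernel

theorem T_orbit_x1 : ∀ t ∈ TL, t * x1 * t⁻¹ ≠ xx := by decide +kernel

theorem zz_T : ∀ t ∈ TL, t * zz * t⁻¹ = zz := by decide +kernel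

end Cfsg.Agent.Lib.WrS4QT.W
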