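import Cfsg.Agent.Lib.WrS4QT.SmallNB

/-!
# The classes in `B`
-/

set_option autoImplicit false
set_option linter.style.haveILetI false
set_option linter.unusedSectionVars false
set_option maxRecDepth 4000

open Cfsg

namespace Cfsg.Agent.Lib.WrS4QT

open W

namespace W

def R6l : List W := [z1, z2] ++ RXl

def O5Z : List W := zz :: ZXl

def O5X : List W := zz :: XXl

theorem five_X : (∀ w ∈ O5X, xx * w ∈ O5X → w ∈ [zz, zz * xx]) ∧
    (∀ v ∈ XXl, zz * v ∈ XXl) ∧ XXl.Nodup ∧ xx ∈ BW ∧ x1 * z2 ∈ BW := by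
  decide +kernel

theorem five_Z : ∀ v ∈ R6l ++ XXl, z1 * v ∈ O5Z → v ∈ [z2, x2, x2 * z2] := by decide +kernel

theorem pair_R6 : ∀ u ∈ R6l, ∀ v ∈ R6l, u * v = zz → (u = z1 ∧ v = z2) ∨ (u = z2 ∧ v = z1) := by decide +kernel

theorem zz_RX : ∀ u ∈ ZXl, ∃ v ∈ RXl, u = zz * v := by decide +kernel

theorem nodup_lists : (R6l ++ ZXl).Nodup ∧ (R6l ++ ZXl ++ XXl).Nodup ∧ R6l.Nodup ∧ (R6l ++ XXl).Nodup ∧
    O5Z.Nodup ∧ z1 * z2 = zz := by
  decide +kernel

theorem sw_cent : (∀ u ∈ TL, ∀ v ∈ TL, u * sw = sw * u → v * sw = sw * v →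
      u * v * u⁻¹ * v⁻¹ = 1 ∨ u * v * u⁻¹ * v⁻¹ = zz) ∧
    xx * (a1 * a2) * xx⁻¹ * (a1 * a2)⁻¹ = zz ∧ xx * sw = sw * xx ∧ a1 * a2 * sw = sw * (a1 * a2) ∧
    a1 * a2 ∈ TW ∧ xx ∈ TW := by
  decide +kernel

theorem sw_cent_card : (TL.filter fun u => decide (u * sw = sw * u)).length = 16 := by decide +kernel

theorem sw_not_z1 : ∀ t ∈ TL, t * sw * t⁻¹ ≠ z1 := by decide +kernel

theorem a2_facts : a2 * z1 = z1 * a2 ∧ a2 ∈ TW ∧ a2 * (x2 * z2) * a2⁻¹ = x2 := by decide +kernel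

end W

namespace Data

variable {G : Type*} [Group G] [Finite G] (d : Data G)

theorem conj_R6 {u : W} (hu : u ∈ R6l) : IsConj (d.ι z1) (d.ι u) := by
  rcases List.mem_append.1 hu with h | h
  · simp only [List.mem_cons, List.not_mem_nil, or_false] at h
    rcases h with rfl | rfl
    · exact IsConj.refl _
    · exact d.conj_z2
  · exact d.x1_conj_z1.trans (d.conj_RX h)

theorem R6_not_zz {u : W} (hu : u ∈ R6l) : ¬ IsConj (d.ι zz) (d.ι u) := fun h =>
  d.zz_not_conj_z1 (h.trans (d.conj_R6 hu).symm)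

theorem R6_BW {u : W} (hu : u ∈ R6l) : u ∈ BW := by
  rcases List.mem_append.1 hu with h | h
  · simp only [List.mem_cons, List.not_mem_nil, or_false] at h
    rcases h with rfl | rfl
    · exact misc_B.2.2.1
    · exact misc_B.2.2.2.1
  · exact (RX_conj u h).1

theorem B_class {v : W} (hv : v ∈ BW) (h1 : v ≠ 1) : v ∈ R6l ∨ v = zz ∨ v ∈ ZXl ∨ v ∈ XXl := by
  rcases B_cases v (mem_TL (BW_le_TW hv)) hv with h | h | h | h | h | h | h
  · exact absurd h h1
  · exact Or.inl (h ▸ List.mem_cons_self)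
  · exact Or.inl (h ▸ List.mem_cons_of_mem _ List.mem_cons_self)
  · exact Or.inr (Or.inl h)
  · exact Or.inl (List.mem_append_right _ h)
  · exact Or.inr (Or.inr (Or.inl h))
  · exact Or.inr (Or.inr (Or.inr h))

theorem ne_one_of_conj {u v : W} (hu : u ≠ 1) (h : IsConj (d.ι u) (d.ι v)) : v ≠ 1 := by
  intro hv
  rw [hv, map_one, isConj_one_left] at h
  exact d.im_ι_ne hu h

theorem count_le {k : G} (hk : k ∈ d.NB) (L1 L2 : List W) (h1 : L1.Nodup)
    (h : ∀ v ∈ L1, v ∈ BW ∧ ∀ w ∈ BW, k * d.ι v * k⁻¹ = d.ι w → w ∈ L2) : L1.length ≤ L2.length := by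
  classical
  choose f hf hfe using fun v (hv : v ∈ L1) => d.NB_move hk (h v hv).1
  rw [← List.toFinset_card_of_nodup h1]
  refine le_trans ?_ L2.toFinset_card_le
  refine Finset.card_le_card_of_injOn (fun v => if hv : v ∈ L1 then f v hv else 1) (fun v hv => ?_)
    (fun u hu v hv e => ?_)
  · simp only [List.coe_toFinset, Set.mem_ofPred_eq] at hv ⊢
    rw [dif_pos hv]
    exact (h v hv).2 _ (hf v hv) (hfe v hv)
  · simp only [List.coe_toFinset, Set.mem_ofPred_eq] at hu hv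
    simp only [dif_pos hu, dif_pos hv] at e
    exact d.inj (mul_left_cancel (mul_right_cancel
      ((hfe u hu).trans ((congrArg d.ι e).trans (hfe v hv).symm))))

theorem T_inf_cent_le {u : W} :
    d.im (TW ⊓ Subgroup.centralizer ({u} : Set W)) ≤ Subgroup.centralizer ({d.ι u} : Set G) := by
  rintro _ ⟨v, hv, rfl⟩
  refine Subgroup.mem_centralizer_singleton_iff.2 ?_
  rw [← map_mul, ← map_mul, Subgroup.mem_centralizer_singleton_iff.1 hv.2]

theorem sw_not_zz (hK : d.Kz ≤ (d.T : Subgroup G)) : ¬ IsConj (d.ι zz) (d.ι sw) := by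
  classical
  intro h
  haveI : Fact (Nat.Prime 2) := ⟨Nat.prime_two⟩
  obtain ⟨g, hg⟩ := isConj_iff.1 h
  set U := d.im (TW ⊓ Subgroup.centralizer ({sw} : Set W))
  set R := cj g (d.T : Subgroup G)
  have hR : IsPGroup 2 R := d.T.isPGroup'.map _
  have hcard : Nat.card U = 16 := by
    rw [card_im, card_eq_filter (S := TW ⊓ Subgroup.centralizer ({sw} : Set W)) inf_le_left
      (f := fun u => decide (u ∈ TW) && decide (u * sw = sw * u)) (fun u => by
        rw [Bool.and_eq_true, decide_eq_true_eq, decide_eq_true_eq]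
        exact and_congr Iff.rfl Subgroup.mem_centralizer_singleton_iff)]
    rw [← sw_cent_card]
    congr 1
  have hUR : U ≤ R := fun x hx => by
    refine mem_cj.2 (hK (Subgroup.mem_centralizer_singleton_iff.2 ?_))
    have h1 := Subgroup.mem_centralizer_singleton_iff.1 (d.T_inf_cent_le hx)
    rw [← hg] at h1
    calc g⁻¹ * x * g * d.ι zz = g⁻¹ * (x * (g * d.ι zz * g⁻¹)) * g := by group
      _ = g⁻¹ * (g * d.ι zz * g⁻¹ * x) * g := by rw [h1]
      _ = _ := by group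
  have hlt : U.subgroupOf R < ⊤ := by
    rw [lt_top_iff_ne_top, Ne, Subgroup.subgroupOf_eq_top]
    intro hle
    have := Subgroup.card_le_of_le hle
    rw [Subgroup.card_map_of_injective (MulAut.conj g).injective, d.card_T, hcard] at this
    omega
  haveI : Group.IsNilpotent ↥R := hR.isNilpotent
  obtain ⟨⟨n, hnR⟩, hnn, hn⟩ := SetLike.exists_of_lt
    (Group.normalizerCondition_of_isNilpotent (U.subgroupOf R) hlt)
  have hnU : ∀ x ∈ U, n * x * n⁻¹ ∈ U := fun x hx =>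
    (Subgroup.mem_normalizer_iff.1 hnn ⟨x, hUR hx⟩).1 hx
  have hmem : ∀ u ∈ TW, u * sw = sw * u → d.ι u ∈ U := fun u hu hc =>
    d.mem_im.2 ⟨hu, Subgroup.mem_centralizer_singleton_iff.2 hc⟩
  obtain ⟨p, hp, hpe⟩ := hnU _ (hmem xx sw_cent.2.2.2.2.2 sw_cent.2.2.1)
  obtain ⟨q, hq, hqe⟩ := hnU _ (hmem _ sw_cent.2.2.2.2.1 sw_cent.2.2.2.1)
  have hnz : n * d.ι zz * n⁻¹ = d.ι (p * q * p⁻¹ * q⁻¹) := by
    rw [← sw_cent.2.1]
    simp only [map_mul, map_inv, hpe, hqe]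
    group
  rcases sw_cent.1 p (mem_TL hp.1) q (mem_TL hq.1) (Subgroup.mem_centralizer_singleton_iff.1 hp.2)
      (Subgroup.mem_centralizer_singleton_iff.1 hq.2) with he | he <;> rw [he] at hnz
  · rw [map_one, conj_eq_one_iff] at hnz
    exact d.im_ι_ne misc.2.2.2.2.2.2.2.2.2.2.2.2.1 hnz
  · obtain ⟨t, ht, rfl⟩ := d.exists_of_T
      (hK (Subgroup.mem_centralizer_singleton_iff.2 (mul_inv_eq_iff_eq_mul.1 hnz)))
    refine hn (hmem t ht (d.inj ?_))
    have h2 : g⁻¹ * d.ι t * g * d.ι zz = d.ι zz * (g⁻¹ * d.ι t * g) := by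
      obtain ⟨t', ht', he'⟩ := d.exists_of_T (mem_cj.1 hnR)
      rw [← he', ← map_mul, ← map_mul, (cent_facts t' (mem_TL ht')).2.2.2]
    rw [map_mul, map_mul, ← hg]
    calc d.ι t * (g * d.ι zz * g⁻¹) = g * (g⁻¹ * d.ι t * g * d.ι zz) * g⁻¹ := by group
      _ = g * (d.ι zz * (g⁻¹ * d.ι t * g)) * g⁻¹ := by rw [h2]
      _ = _ := by group

theorem sw_not_conj_z1 (hK : d.Kz ≤ (d.T : Subgroup G)) : ¬ IsConj (d.ι z1) (d.ι sw) := by
  intro h
  obtain ⟨g, hg⟩ := isConj_iff.1 h.symm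
  set U := d.im (TW ⊓ Subgroup.centralizer ({sw} : Set W))
  have hUC : cj g U ≤ Subgroup.centralizer ({d.ι z1} : Set G) := by
    rintro _ ⟨x, hx, rfl⟩
    refine Subgroup.mem_centralizer_singleton_iff.2 ?_
    show g * x * g⁻¹ * d.ι z1 = d.ι z1 * (g * x * g⁻¹)
    rw [← hg]
    calc g * x * g⁻¹ * (g * d.ι sw * g⁻¹) = g * (x * d.ι sw) * g⁻¹ := by group
      _ = g * (d.ι sw * x) * g⁻¹ := by rw [Subgroup.mem_centralizer_singleton_iff.1 (d.T_inf_cent_le hx)]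
      _ = _ := by group
  have hU : IsPGroup 2 U := by
    refine d.T.isPGroup'.to_le ?_
    rw [d.hT]; exact Subgroup.map_mono inf_le_left
  obtain ⟨c, hc, hcU⟩ := d.cent_z1_into_T0 (hU.map _) hUC
  rw [cj_cj] at hcU
  have hmem : ∀ u ∈ TW, u * sw = sw * u → d.ι u ∈ U := fun u hu hc' =>
    d.mem_im.2 ⟨hu, Subgroup.mem_centralizer_singleton_iff.2 hc'⟩
  obtain ⟨p, hp, hpe⟩ := hcU ⟨_, hmem xx sw_cent.2.2.2.2.2 sw_cent.2.2.1, rfl⟩
  obtain ⟨q, hq, hqe⟩ := hcU ⟨_, hmem _ sw_cent.2.2.2.2.1 sw_cent.2.2.2.1, rfl⟩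
  simp only [MulEquiv.coe_toMonoidHom, MulAut.conj_apply] at hpe hqe
  have hnz : c * g * d.ι zz * (c * g)⁻¹ = d.ι (p * q * p⁻¹ * q⁻¹) := by
    rw [← sw_cent.2.1]
    simp only [map_mul, map_inv, hpe, hqe]
    group
  have hconj : IsConj (d.ι zz) (d.ι (p * q * p⁻¹ * q⁻¹)) := isConj_iff.2 ⟨c * g, hnz⟩
  have hpT := mem_TL ((subset_TW p).2.2.2.2.2 hp)
  have hqT := mem_TL ((subset_TW q).2.2.2.2.2 hq)
  rcases Z0_list _ ((four_facts p hpT q hqT).2.2.1 hp hq) with he | he | he | he <;> rw [he] at hnz hconj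
  · exact d.ne_one_of_conj misc.2.2.2.2.2.2.2.2.2.2.2.2.1 hconj rfl
  · exact d.zz_not_conj_z1 hconj
  · exact d.zz_not_conj_z1 (hconj.trans d.conj_z2.symm)
  · rw [nodup_lists.2.2.2.2.2] at hnz
    obtain ⟨t, ht, hte⟩ := d.exists_of_T
      (hK (Subgroup.mem_centralizer_singleton_iff.2 (mul_inv_eq_iff_eq_mul.1 hnz)))
    refine sw_not_z1 t (mem_TL ht) (d.inj ?_)
    rw [map_mul, map_mul, map_inv, hte,
      show c * g * d.ι sw * (c * g)⁻¹ = c * (g * d.ι sw * g⁻¹) * c⁻¹ by group, hg,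
      mul_inv_eq_iff_eq_mul]
    exact Subgroup.mem_centralizer_singleton_iff.1 hc

theorem cent_z1_inf_eq (h : ∀ k ∈ d.NB, k * d.ι z1 = d.ι z1 * k → k * d.ι z2 * k⁻¹ = d.ι z2) :
    Nat.card (Subgroup.centralizer ({d.ι z1} : Set G) ⊓ d.NB : Subgroup G) = 64 := by
  have he : Subgroup.centralizer ({d.ι z1} : Set G) ⊓ d.NB = d.im T0W := by
    refine le_antisymm (fun k hk => ?_) ?_
    · have h1 := Subgroup.mem_centralizer_singleton_iff.1 hk.1
      exact d.cent_pair h1 (mul_inv_eq_iff_eq_mul.1 (h k hk.2 h1))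
    · rintro _ ⟨u, hu, rfl⟩
      refine ⟨Subgroup.mem_centralizer_singleton_iff.2 ?_, d.T_le_NB (d.im_T0_le (d.mem_im.2 hu))⟩
      rw [← map_mul, ← map_mul, ((cent_facts u (mem_TL ((subset_TW u).2.2.2.2.2 hu))).2.2.1 hu).1]
  rw [he, card_im, card_sub, card_facts.2.1]

theorem not_both (hX : IsConj (d.ι zz) (d.ι xx)) (hZ : IsConj (d.ι zz) (d.ι (x1 * z2))) : False := by
  have hr : ∀ v ∈ BW, IsConj (d.ι z1) (d.ι v) → v ∈ R6l := by
    intro v hv hc
    rcases B_class hv (d.ne_one_of_conj misc.2.2.2.2.2.2.2.2.2.2.2.2.2.1 hc) with h | rfl | h | h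
    · exact h
    · exact absurd hc.symm d.zz_not_conj_z1
    · exact absurd ((hZ.trans (d.conj_ZX h)).trans hc.symm) d.zz_not_conj_z1
    · exact absurd ((hX.trans (d.conj_XX h)).trans hc.symm) d.zz_not_conj_z1
  have hK : d.Kz ≤ (d.T : Subgroup G) := by
    intro k hk
    refine d.mem_T_of_pair ?_
    obtain ⟨u, hu, hue⟩ := d.NB_move (d.Kz_le hk) misc_B.2.2.1
    obtain ⟨v, hv, hve⟩ := d.NB_move (d.Kz_le hk) misc_B.2.2.2.1
    have h1 : u * v = zz := d.inj (by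
      rw [map_mul, ← hue, ← hve, show k * d.ι z1 * k⁻¹ * (k * d.ι z2 * k⁻¹) = k * (d.ι z1 * d.ι z2) * k⁻¹ by group,
        ← map_mul, nodup_lists.2.2.2.2.2, mul_inv_eq_iff_eq_mul]
      exact Subgroup.mem_centralizer_singleton_iff.1 hk)
    rcases pair_R6 u (hr u hu (isConj_iff.2 ⟨k, hue⟩)) v (hr v hv (d.conj_z2.trans (isConj_iff.2 ⟨k, hve⟩))) h1 with
      ⟨rfl, rfl⟩ | ⟨rfl, rfl⟩
    · exact Or.inl ⟨hue, hve⟩
    · exact Or.inr ⟨hue, hve⟩
  obtain ⟨b, hb, hb1, hc⟩ := d.sw_fuses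
  rcases B_class hb hb1 with h | rfl | h | h
  · exact d.sw_not_conj_z1 hK ((d.conj_R6 h).trans hc.symm)
  · exact d.sw_not_zz hK hc.symm
  · exact d.sw_not_zz hK ((hZ.trans (d.conj_ZX h)).trans hc.symm)
  · exact d.sw_not_zz hK ((hX.trans (d.conj_XX h)).trans hc.symm)

theorem not_XX_only (hX : IsConj (d.ι zz) (d.ι xx)) (hZ : ¬ IsConj (d.ι zz) (d.ι (x1 * z2))) : False := by
  obtain ⟨k, hk, he⟩ := d.fusion_B misc_B.2.2.2.2.1 five_X.2.2.2.1 hX
  have hcl : ∀ v ∈ BW, IsConj (d.ι zz) (d.ι v) → v ∈ O5X := by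
    intro v hv hc
    rcases B_class hv (d.ne_one_of_conj misc.2.2.2.2.2.2.2.2.2.2.2.2.1 hc) with h | rfl | h | h
    · exact absurd hc (d.R6_not_zz h)
    · exact List.mem_cons_self
    · exact absurd (hc.trans (d.conj_ZX h).symm) hZ
    · exact List.mem_cons_of_mem _ h
  have := d.count_le hk XXl [zz, zz * xx] five_X.2.2.1 fun v hv => by
    refine ⟨(XX_conj v hv).1, fun w hw hwe => five_X.1 w
      (hcl w hw ((hX.trans (d.conj_XX hv)).trans (isConj_iff.2 ⟨k, hwe⟩))) ?_⟩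
    obtain ⟨w', hw', hwe'⟩ := d.NB_move hk ((XX_conj _ (five_X.2.1 v hv)).1)
    have h1 : xx * w = w' := d.inj (by rw [map_mul, ← he, ← hwe, ← hwe', map_mul]; group)
    rw [h1]
    exact hcl w' hw' ((hX.trans (d.conj_XX (five_X.2.1 v hv))).trans (isConj_iff.2 ⟨k, hwe'⟩))
  exact absurd this (by decide)

theorem not_fixed (hX : ¬ IsConj (d.ι zz) (d.ι xx)) (hZ : ¬ IsConj (d.ι zz) (d.ι (x1 * z2))) : False := by
  classical
  have hfix : ∀ k ∈ d.NB, k * d.ι zz * k⁻¹ = d.ι zz := by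
    intro k hk
    obtain ⟨v, hv, hve⟩ := d.NB_move hk misc_B.2.2.2.2.1
    have hc : IsConj (d.ι zz) (d.ι v) := isConj_iff.2 ⟨k, hve⟩
    rcases B_class hv (d.ne_one_of_conj misc.2.2.2.2.2.2.2.2.2.2.2.2.1 hc) with h | rfl | h | h
    · exact absurd hc (d.R6_not_zz h)
    · exact hve
    · exact absurd (hc.trans (d.conj_ZX h).symm) hZ
    · exact absurd (hc.trans (d.conj_XX h).symm) hX
  have hr2 : ∀ u ∈ BW, IsConj (d.ι z1) (d.ι u) → IsConj (d.ι z1) (d.ι (zz * u)) := by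
    intro u hu hc
    obtain ⟨k, hk, he⟩ := d.fusion_B misc_B.2.2.1 hu hc
    refine d.conj_z2.trans (isConj_iff.2 ⟨k, ?_⟩)
    rw [← par_facts.2.2.2.2.2.2.2.2.1, map_mul, map_mul, ← he]
    calc k * (d.ι zz * d.ι z1) * k⁻¹ = k * d.ι zz * k⁻¹ * (k * d.ι z1 * k⁻¹) := by group
      _ = _ := by rw [hfix k hk]
  have hZX : ∀ u ∈ ZXl, IsConj (d.ι z1) (d.ι u) := by
    intro u hu
    obtain ⟨v, hv, rfl⟩ := zz_RX u hu
    exact hr2 v (RX_conj v hv).1 (d.conj_R6 (List.mem_append_right _ hv))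
  have h64 := d.cent_z1_inf_eq fun k hk hc => by
    rw [← par_facts.2.2.2.2.2.2.2.2.1, map_mul,
      show k * (d.ι zz * d.ι z1) * k⁻¹ = k * d.ι zz * k⁻¹ * (k * d.ι z1 * k⁻¹) by group, hfix k hk,
      mul_inv_eq_iff_eq_mul.2 hc]
  by_cases hrX : IsConj (d.ι z1) (d.ι xx)
  · have h := d.orbit_card misc_B.2.2.1 (R6l ++ ZXl ++ XXl) nodup_lists.2.1
      (fun v hv => by
        rcases List.mem_append.1 hv with h | h
        · rcases List.mem_append.1 h with h | h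
          · exact ⟨R6_BW h, d.conj_R6 h⟩
          · exact ⟨(ZX_conj v h).1, hZX v h⟩
        · exact ⟨(XX_conj v h).1, hrX.trans (d.conj_XX h)⟩)
      (fun v hv hc => by
        rcases B_class hv (d.ne_one_of_conj misc.2.2.2.2.2.2.2.2.2.2.2.2.2.1 hc) with h | rfl | h | h
        · exact List.mem_append_left _ (List.mem_append_left _ h)
        · exact absurd hc.symm d.zz_not_conj_z1
        · exact List.mem_append_left _ (List.mem_append_right _ h)
        · exact List.mem_append_right _ h)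
    rw [h64] at h
    exact d.card_NB_ne (Or.inr rfl) h.symm
  · have h := d.orbit_card misc_B.2.2.1 (R6l ++ ZXl) nodup_lists.1
      (fun v hv => by
        rcases List.mem_append.1 hv with h | h
        · exact ⟨R6_BW h, d.conj_R6 h⟩
        · exact ⟨(ZX_conj v h).1, hZX v h⟩)
      (fun v hv hc => by
        rcases B_class hv (d.ne_one_of_conj misc.2.2.2.2.2.2.2.2.2.2.2.2.2.1 hc) with h | rfl | h | h
        · exact List.mem_append_left _ h
        · exact absurd hc.symm d.zz_not_conj_z1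
        · exact List.mem_append_right _ h
        · exact absurd (hc.trans (d.conj_XX h).symm) hrX)
    rw [h64] at h
    exact d.card_NB_ne (Or.inl rfl) h.symm

/-- **The fusion in `B`.** -/
theorem five : IsConj (d.ι zz) (d.ι (x1 * z2)) ∧ ¬ IsConj (d.ι zz) (d.ι xx) ∧
    ∃ y ∈ d.NB, y * d.ι z1 = d.ι z1 * y ∧ y * d.ι z2 * y⁻¹ = d.ι x2 := by
  classical
  by_cases hX : IsConj (d.ι zz) (d.ι xx)
  · by_cases hZ : IsConj (d.ι zz) (d.ι (x1 * z2))
    · exact (d.not_both hX hZ).elim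
    · exact (d.not_XX_only hX hZ).elim
  by_cases hZ : IsConj (d.ι zz) (d.ι (x1 * z2))
  swap
  · exact (d.not_fixed hX hZ).elim
  refine ⟨hZ, hX, ?_⟩
  have hcl : ∀ v ∈ BW, IsConj (d.ι zz) (d.ι v) → v ∈ O5Z := by
    intro v hv hc
    rcases B_class hv (d.ne_one_of_conj misc.2.2.2.2.2.2.2.2.2.2.2.2.1 hc) with h | rfl | h | h
    · exact absurd hc (d.R6_not_zz h)
    · exact List.mem_cons_self
    · exact List.mem_cons_of_mem _ h
    · exact absurd (hc.trans (d.conj_XX h).symm) hX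
  have hr : ∀ v ∈ BW, IsConj (d.ι z1) (d.ι v) → v ∈ R6l ++ XXl := by
    intro v hv hc
    rcases B_class hv (d.ne_one_of_conj misc.2.2.2.2.2.2.2.2.2.2.2.2.2.1 hc) with h | rfl | h | h
    · exact List.mem_append_left _ h
    · exact absurd hc.symm d.zz_not_conj_z1
    · exact absurd ((hZ.trans (d.conj_ZX h)).trans hc.symm) d.zz_not_conj_z1
    · exact List.mem_append_right _ h
  obtain ⟨k, hk, hk1, hk2⟩ : ∃ k ∈ d.NB, k * d.ι z1 = d.ι z1 * k ∧ k * d.ι z2 * k⁻¹ ≠ d.ι z2 := by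
    by_contra hall
    push Not at hall
    have h64 := d.cent_z1_inf_eq hall
    have h5 := d.orbit_card misc_B.2.2.2.2.1 O5Z nodup_lists.2.2.2.2.1
      (fun v hv => by
        rcases List.mem_cons.1 hv with rfl | h
        · exact ⟨misc_B.2.2.2.2.1, IsConj.refl _⟩
        · exact ⟨(ZX_conj v h).1, hZ.trans (d.conj_ZX h)⟩)
      hcl
    obtain ⟨m, hm⟩ : 128 ∣ Nat.card (Subgroup.centralizer ({d.ι zz} : Set G) ⊓ d.NB : Subgroup G) := by
      rw [← d.card_T]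
      exact Subgroup.card_dvd_of_le (le_inf d.T_le_Kz d.T_le_NB)
    rw [hm, show O5Z.length = 5 from rfl] at h5
    by_cases hrX : IsConj (d.ι z1) (d.ι xx)
    · have h := d.orbit_card misc_B.2.2.1 (R6l ++ XXl) nodup_lists.2.2.2.1
        (fun v hv => by
          rcases List.mem_append.1 hv with h | h
          · exact ⟨R6_BW h, d.conj_R6 h⟩
          · exact ⟨(XX_conj v h).1, hrX.trans (d.conj_XX h)⟩)
        hr
      rw [h64] at h
      exact d.card_NB_ne (Or.inl rfl) h.symm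
    · have h := d.orbit_card misc_B.2.2.1 R6l nodup_lists.2.2.1
        (fun v hv => ⟨R6_BW hv, d.conj_R6 hv⟩)
        (fun v hv hc => by
          rcases List.mem_append.1 (hr v hv hc) with h | h
          · exact h
          · exact absurd (hc.trans (d.conj_XX h).symm) hrX)
      rw [h64, show R6l.length = 6 from rfl] at h
      omega
  obtain ⟨v, hv, hve⟩ := d.NB_move hk misc_B.2.2.2.1
  obtain ⟨w, hw, hwe⟩ := d.NB_move hk misc_B.2.2.2.2.1
  have h1 : z1 * v = w := d.inj (by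
    rw [map_mul, ← hve, ← hwe, ← nodup_lists.2.2.2.2.2, map_mul]
    calc d.ι z1 * (k * d.ι z2 * k⁻¹) = d.ι z1 * k * (d.ι z2 * k⁻¹) := by group
      _ = _ := by rw [← hk1]; group)
  have h3 := five_Z v (hr v hv (d.conj_z2.trans (isConj_iff.2 ⟨k, hve⟩)))
    (h1 ▸ hcl w hw (isConj_iff.2 ⟨k, hwe⟩))
  simp only [List.mem_cons, List.not_mem_nil, or_false] at h3
  rcases h3 with rfl | rfl | rfl
  · exact absurd hve hk2
  · exact ⟨k, hk, hk1, hve⟩
  · refine ⟨d.ι a2 * k, mul_mem (d.T_le_NB (d.mem_TG.2 a2_facts.2.1)) hk, ?_, ?_⟩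
    · rw [mul_assoc, hk1, ← mul_assoc, ← map_mul, a2_facts.1, map_mul, mul_assoc]
    · rw [show d.ι a2 * k * d.ι z2 * (d.ι a2 * k)⁻¹ = d.ι a2 * (k * d.ι z2 * k⁻¹) * (d.ι a2)⁻¹ by group,
        hve, ← map_inv, ← map_mul, ← map_mul, a2_facts.2.2]

end Data

end Cfsg.Agent.Lib.WrS4QT
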