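import Cfsg.Agent.Lib.WrS4QT.Transfer

/-!
# `N(B)` has order neither `640` nor `896`
-/

set_option autoImplicit false
set_option linter.style.haveILetI false
set_option linter.unusedSectionVars false
set_option maxRecDepth 4000

open Cfsg

namespace Cfsg.Agent.Lib.WrS4QT

open W

namespace W

theorem w_facts : a1 * sw * (a1 * sw) = a1 * a2 ∧ a1 * a1 = 1 ∧ sw * sw = 1 ∧ a1 ∈ TW ∧ sw ∈ TW ∧
    z1 * (a1 * a2) = a1 * a2 * z1 ∧ z2 * (a1 * a2) = a1 * a2 * z2 := by
  decide +kernel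

theorem cent_w : ∀ v ∈ TL, v ∈ BW → v * (a1 * a2) = a1 * a2 * v → v ∈ Z0W := by decide +kernel

theorem Z0_list : ∀ u : W, u ∈ Z0W → u = 1 ∨ u = z1 ∨ u = z2 ∨ u = z1 * z2 := by decide +kernel

end W

namespace Data

variable {G : Type*} [Group G] [Finite G] (d : Data G)

theorem card_NB_ne {p : ℕ} (hp : p = 5 ∨ p = 7) : Nat.card d.NB ≠ 128 * p := by
  classical
  intro hH
  haveI : Fact p.Prime := ⟨by rcases hp with rfl | rfl <;> norm_num⟩
  haveI : Fact (Nat.Prime 2) := ⟨Nat.prime_two⟩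
  set H := d.NB
  set B' := (d.im BW).subgroupOf H
  haveI hBn : B'.Normal := Subgroup.normal_in_normalizer
  have hBcard : Nat.card B' = 16 := by
    rw [Nat.card_congr (Subgroup.subgroupOfEquivOfLe Subgroup.le_normalizer).toEquiv, card_im, card_sub,
      card_facts.2.2.2.1]
  set π := QuotientGroup.mk' B'
  have hπ : Function.Surjective π := QuotientGroup.mk'_surjective B'
  have hQ : Nat.card (H ⧸ B') = 8 * p := by
    have h := Subgroup.card_eq_card_quotient_mul_card_subgroup B'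
    rw [hBcard, hH] at h
    omega
  obtain ⟨P⟩ : Nonempty (Sylow p (H ⧸ B')) := inferInstance
  have hP : Nat.card (P : Subgroup (H ⧸ B')) = p := by
    have h1 : p ∣ Nat.card (P : Subgroup (H ⧸ B')) := P.dvd_card_of_dvd_card (hQ ▸ dvd_mul_left p 8)
    obtain ⟨k, hk⟩ := IsPGroup.iff_card.1 P.isPGroup'
    have h2 : p ^ k ∣ 8 * p := hk ▸ hQ ▸ Subgroup.card_subgroup_dvd_card _
    rw [hk] at h1 ⊢
    match k with
    | 0 => exact absurd (Nat.le_of_dvd one_pos h1) (by rcases hp with rfl | rfl <;> norm_num)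
    | 1 => exact pow_one p
    | k + 2 =>
      have h3 : p ^ 2 ∣ 8 * p := (pow_dvd_pow p (by omega)).trans h2
      rcases hp with rfl | rfl <;> norm_num at h3
  have hPi : (P : Subgroup (H ⧸ B')).index = 8 := by
    have h := Subgroup.card_mul_index (P : Subgroup (H ⧸ B'))
    rw [hP, hQ, mul_comm 8 p] at h
    exact Nat.eq_of_mul_eq_mul_left (by rcases hp with rfl | rfl <;> norm_num) h
  haveI hPn : (P : Subgroup (H ⧸ B')).Normal := by
    by_contra hnn
    have hn1 : Nat.card (Sylow p (H ⧸ B')) ≠ 1 := fun h => hnn <| by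
      haveI : Subsingleton (Sylow p (H ⧸ B')) := (Nat.card_eq_one_iff_unique.1 h).1
      exact P.normal_of_subsingleton
    have hn8 : Nat.card (Sylow p (H ⧸ B')) = 8 := by
      have h1 : Nat.card (Sylow p (H ⧸ B')) ∣ 8 := hPi ▸ P.card_dvd_index
      have h2 := card_sylow_modEq_one p (H ⧸ B')
      obtain ⟨i, hi, he⟩ := (Nat.dvd_prime_pow Nat.prime_two).1 (show _ ∣ 2 ^ 3 from h1)
      rw [he] at h2 hn1 ⊢
      unfold Nat.ModEq at h2
      interval_cases i <;> rcases hp with rfl | rfl <;> simp_all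
    have hN : Subgroup.normalizer (P : Set (H ⧸ B')) = P := by
      refine (Subgroup.eq_of_le_of_card_ge Subgroup.le_normalizer ?_).symm
      have h := Subgroup.card_mul_index (Subgroup.normalizer (P : Set (H ⧸ B')))
      rw [← Sylow.card_eq_index_normalizer, hn8, hQ, mul_comm 8 p] at h
      rw [hP]
      exact (Nat.eq_of_mul_eq_mul_right (by norm_num) h).le
    haveI : IsCyclic (P : Subgroup (H ⧸ B')) := isCyclic_of_prime_card hP
    have hc := MonoidHom.ker_transferSylow_isComplement' P (by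
      rw [hN]
      intro x hx
      refine Subgroup.mem_centralizer_iff.2 fun y hy => ?_
      exact congrArg Subtype.val ((IsCyclic.commGroup (α := (P : Subgroup (H ⧸ B')))).mul_comm ⟨y, hy⟩ ⟨x, hx⟩))
    set K := (MonoidHom.transferSylow P _).ker with hKdef
    have hK : Nat.card K = 8 := by rw [← hc.index_eq_card, hPi]
    set K' := K.comap π
    have hK' : Nat.card K' = 2 ^ 7 := by
      have h1 := Subgroup.card_mul_index K'
      rw [Subgroup.index_comap_of_surjective _ hπ, hH] at h1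
      have h2 := Subgroup.card_mul_index K
      rw [hK, hQ] at h2
      have hi : K.index = p := Nat.eq_of_mul_eq_mul_left (by norm_num) h2
      rw [hi] at h1
      exact Nat.eq_of_mul_eq_mul_right (by rcases hp with rfl | rfl <;> norm_num) h1
    set T' := d.T.subtype d.T_le_NB
    have hsup : (T' : Subgroup H) ⊔ K' = T' :=
      T'.3 (T'.isPGroup'.to_sup_of_normal_right (IsPGroup.of_card hK')) le_sup_left
    have hT' : Nat.card (T' : Subgroup H) = 128 := by
      rw [Sylow.coe_subtype, Nat.card_congr (Subgroup.subgroupOfEquivOfLe d.T_le_NB).toEquiv, d.card_T]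
    have hKT : K' = (T' : Subgroup H) := Subgroup.eq_of_le_of_card_ge (sup_eq_left.1 hsup)
      (by rw [hT', hK']; norm_num)
    haveI hTn : ((d.T : Subgroup G).subgroupOf H).Normal := by
      rw [← Sylow.coe_subtype (h := d.T_le_NB), ← hKT]; infer_instance
    have h := (Subgroup.normal_subgroupOf_iff_le_normalizer d.T_le_NB).1 hTn
    rw [d.normalizer_T] at h
    have := Subgroup.card_le_of_le h
    rw [hH, d.card_T] at this
    rcases hp with rfl | rfl <;> omega
  -- a generator of the Sylow subgroup commutes with `(a, a)` modulo `B`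
  obtain ⟨gq, hgq, hg1⟩ : ∃ q ∈ (P : Subgroup (H ⧸ B')), q ≠ 1 := by
    refine ((P : Subgroup (H ⧸ B')).bot_or_exists_ne_one).resolve_left fun h => ?_
    rw [h, Subgroup.card_bot] at hP
    exact (Fact.out : p.Prime).ne_one hP.symm
  have hgord : orderOf gq = p := by
    have h1 : orderOf gq ∣ p := hP ▸ Subgroup.orderOf_dvd_natCard _ hgq
    exact ((Nat.dvd_prime (Fact.out : p.Prime)).1 h1).resolve_left fun h => hg1 (orderOf_eq_one_iff.1 h)
  have hPz : Subgroup.zpowers gq = (P : Subgroup (H ⧸ B')) := Subgroup.eq_of_le_of_card_ge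
    (Subgroup.zpowers_le.2 hgq) (by rw [hP, Nat.card_zpowers, hgord])
  have hpow : ∀ x : H ⧸ B', ∃ i : ℤ, x * gq * x⁻¹ = gq ^ i := fun x => by
    obtain ⟨i, hi⟩ := Subgroup.mem_zpowers_iff.1
      (show x * gq * x⁻¹ ∈ Subgroup.zpowers gq by rw [hPz]; exact hPn.conj_mem _ hgq x)
    exact ⟨i, hi.symm⟩
  set A : H := ⟨d.ι a1, d.T_le_NB (d.mem_TG.2 w_facts.2.2.2.1)⟩
  set S : H := ⟨d.ι sw, d.T_le_NB (d.mem_TG.2 w_facts.2.2.2.2.1)⟩
  have hA : π A * π A = 1 := by
    rw [← map_mul, show A * A = 1 from Subtype.ext (by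
      show d.ι a1 * d.ι a1 = 1
      rw [← map_mul, w_facts.2.1, map_one]), map_one]
  have hS : π S * π S = 1 := by
    rw [← map_mul, show S * S = 1 from Subtype.ext (by
      show d.ι sw * d.ι sw = 1
      rw [← map_mul, w_facts.2.2.1, map_one]), map_one]
  obtain ⟨i, hi⟩ := hpow (π A)
  obtain ⟨j, hj⟩ := hpow (π S)
  have e1 : π A * π S * gq * (π A * π S)⁻¹ = gq ^ (i * j) := by
    rw [show π A * π S * gq * (π A * π S)⁻¹ = π A * (π S * gq * (π S)⁻¹) * (π A)⁻¹ by group, hj, ← conj_zpow,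
      hi, zpow_mul]
  have e2 : π S * π A * gq * (π S * π A)⁻¹ = gq ^ (i * j) := by
    rw [show π S * π A * gq * (π S * π A)⁻¹ = π S * (π A * gq * (π A)⁻¹) * (π S)⁻¹ by group, hi, ← conj_zpow,
      hj, mul_comm i j, zpow_mul]
  have hwc : π (A * S * (A * S)) * gq = gq * π (A * S * (A * S)) := by
    have hinv : (π S * π A)⁻¹ = π A * π S := by
      rw [mul_inv_rev, inv_eq_of_mul_eq_one_right hA, inv_eq_of_mul_eq_one_right hS]
    have e3 := e1.trans e2.symm
    rw [map_mul, map_mul]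
    calc π A * π S * (π A * π S) * gq
        = π A * π S * (π A * π S * gq * (π A * π S)⁻¹) * (π A * π S) := by group
      _ = π A * π S * (π S * π A * gq * (π S * π A)⁻¹) * (π A * π S) := by rw [e3]
      _ = (π S * π A)⁻¹ * (π S * π A * gq * (π S * π A)⁻¹) * (π A * π S) := by rw [hinv]
      _ = gq * (π S * π A)⁻¹ * (π A * π S) := by group
      _ = _ := by rw [hinv, mul_assoc]
  obtain ⟨g, rfl⟩ := hπ gq
  have hb : g * (A * S * (A * S)) * g⁻¹ * (A * S * (A * S))⁻¹ ∈ B' := by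
    rw [← QuotientGroup.eq_one_iff]
    show π _ = 1
    rw [map_mul, map_mul, map_mul, ← hwc, map_inv, map_inv]
    group
  obtain ⟨b, hbB, hbe⟩ := (hb : (g : G) * ((A * S * (A * S) : H) : G) * (g : G)⁻¹ *
    ((A * S * (A * S) : H) : G)⁻¹ ∈ d.im BW)
  have hw : ((A * S * (A * S) : H) : G) = d.ι (a1 * a2) := by
    show d.ι a1 * d.ι sw * (d.ι a1 * d.ι sw) = _
    rw [← map_mul, ← map_mul, w_facts.1]
  rw [show H.subtype (g * (A * S * (A * S)) * g⁻¹ * (A * S * (A * S))⁻¹) =
    (g : G) * ((A * S * (A * S) : H) : G) * (g : G)⁻¹ * ((A * S * (A * S) : H) : G)⁻¹ from rfl, hw] at hbe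
  have hgw : (g : G) * d.ι (a1 * a2) * (g : G)⁻¹ = d.ι (b * (a1 * a2)) := by
    rw [map_mul d.ι b, hbe]; group
  have hz : ∀ v, v ∈ BW → v * (a1 * a2) = a1 * a2 * v → (g : G) * d.ι v * (g : G)⁻¹ ∈ d.im Z0W := by
    intro v hv hvc
    obtain ⟨v', hv', he⟩ := d.NB_move g.2 hv
    rw [he]
    refine d.mem_im.2 (cent_w v' (mem_TL (BW_le_TW hv')) hv' ?_)
    have h1 : v' * (b * (a1 * a2)) = b * (a1 * a2) * v' := d.inj (by
      rw [map_mul, map_mul d.ι (b * (a1 * a2)), ← hgw, ← he]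
      calc (g : G) * d.ι v * (g : G)⁻¹ * ((g : G) * d.ι (a1 * a2) * (g : G)⁻¹)
          = (g : G) * (d.ι v * d.ι (a1 * a2)) * (g : G)⁻¹ := by group
        _ = (g : G) * (d.ι (a1 * a2) * d.ι v) * (g : G)⁻¹ := by rw [← map_mul, hvc, map_mul]
        _ = _ := by group)
    have h2 : v' * b = b * v' :=
      ((four_facts v' (mem_TL (BW_le_TW hv')) b (mem_TL (BW_le_TW hbB))).2.1 hv' hbB).1
    rw [← mul_assoc, h2, mul_assoc, mul_assoc b] at h1
    exact mul_left_cancel h1
  have hgN : (g : G) ∈ Subgroup.normalizer (d.im Z0W : Set G) := by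
    refine Baumann.mem_normalizer_of_forall ?_
    rintro _ ⟨u, hu, rfl⟩
    rcases Z0_list u hu with rfl | rfl | rfl | rfl
    · simp
    · exact hz z1 misc_B.2.2.1 w_facts.2.2.2.2.2.1
    · exact hz z2 misc_B.2.2.2.1 w_facts.2.2.2.2.2.2
    · rw [map_mul, show (g : G) * (d.ι z1 * d.ι z2) * (g : G)⁻¹ =
        (g : G) * d.ι z1 * (g : G)⁻¹ * ((g : G) * d.ι z2 * (g : G)⁻¹) by group]
      exact mul_mem (hz z1 misc_B.2.2.1 w_facts.2.2.2.2.2.1) (hz z2 misc_B.2.2.2.1 w_facts.2.2.2.2.2.2)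
  rw [d.normalizer_Z0] at hgN
  have h1 : orderOf g ∣ 2 ^ 7 := by
    rw [← Subgroup.orderOf_coe, show 2 ^ 7 = Nat.card (d.T : Subgroup G) from d.card_T.symm]
    exact Subgroup.orderOf_dvd_natCard _ hgN
  have h2 : p ∣ 2 ^ 7 := hgord ▸ (orderOf_map_dvd π g).trans h1
  rcases hp with rfl | rfl <;> norm_num at h2

end Data

end Cfsg.Agent.Lib.WrS4QT
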