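import Cfsg.Agent.Lib.WrS4QT.Model

/-!
# The subgroups of the model and the finite facts about them
-/

set_option autoImplicit false
set_option maxRecDepth 4000

namespace Cfsg.Agent.Lib.WrS4QT

namespace S4

theorem closed : ∀ a b : S4, (inD a = true → inD b = true → inD (a * b) = true) ∧
    (inV a = true → inV b = true → inV (a * b) = true) ∧
    (inW a = true → inW b = true → inW (a * b) = true) ∧
    (inD a = true → inD a⁻¹ = true) ∧ (inV a = true → inV a⁻¹ = true) ∧ (inW a = true → inW a⁻¹ = true) ∧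
    inD 1 = true ∧ inV 1 = true ∧ inW 1 = true ∧ (inV a = true → inD a = true) ∧ (inW a = true → inD a = true) := by
  decide +kernel

/-- The three subgroups of the Sylow subgroup. -/
def DSub : Subgroup S4 where
  carrier := {a | inD a = true}
  one_mem' := (closed 1 1).2.2.2.2.2.2.1
  mul_mem' {a b} ha hb := (closed a b).1 ha hb
  inv_mem' {a} ha := (closed a a).2.2.2.1 ha

def VSub : Subgroup S4 where
  carrier := {a | inV a = true}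
  one_mem' := (closed 1 1).2.2.2.2.2.2.2.1
  mul_mem' {a b} ha hb := (closed a b).2.1 ha hb
  inv_mem' {a} ha := (closed a a).2.2.2.2.1 ha

def WSub : Subgroup S4 where
  carrier := {a | inW a = true}
  one_mem' := (closed 1 1).2.2.2.2.2.2.2.2.1
  mul_mem' {a b} ha hb := (closed a b).2.2.1 ha hb
  inv_mem' {a} ha := (closed a a).2.2.2.2.2.1 ha

/-- The centre of the Sylow subgroup. -/
def ZSub : Subgroup S4 := VSub ⊓ WSub

theorem mem_DSub {a : S4} : a ∈ DSub ↔ inD a = true := Iff.rfl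
theorem mem_VSub {a : S4} : a ∈ VSub ↔ inV a = true := Iff.rfl
theorem mem_WSub {a : S4} : a ∈ WSub ↔ inW a = true := Iff.rfl
theorem mem_ZSub {a : S4} : a ∈ ZSub ↔ inV a = true ∧ inW a = true := Iff.rfl

end S4

namespace W

/-- A product of two subgroups of the base. -/
def prodSub (P Q : Subgroup S4) : Subgroup W where
  carrier := {u | u.s = false ∧ u.a ∈ P ∧ u.b ∈ Q}
  one_mem' := ⟨rfl, P.one_mem, Q.one_mem⟩
  mul_mem' {u v} hu hv := by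
    obtain ⟨a, b, s⟩ := u
    obtain ⟨a', b', s'⟩ := v
    obtain ⟨rfl, ha, hb⟩ := hu
    obtain ⟨rfl, ha', hb'⟩ := hv
    exact ⟨rfl, P.mul_mem ha ha', Q.mul_mem hb hb'⟩
  inv_mem' {u} hu := by
    obtain ⟨a, b, s⟩ := u
    obtain ⟨rfl, ha, hb⟩ := hu
    exact ⟨rfl, P.inv_mem ha, Q.inv_mem hb⟩

/-- The Sylow 2-subgroup. -/
def TW : Subgroup W where
  carrier := {u | u.a ∈ S4.DSub ∧ u.b ∈ S4.DSub}
  one_mem' := ⟨S4.DSub.one_mem, S4.DSub.one_mem⟩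
  mul_mem' {u v} hu hv := by
    obtain ⟨a, b, s⟩ := u
    cases s
    · exact ⟨S4.DSub.mul_mem hu.1 hv.1, S4.DSub.mul_mem hu.2 hv.2⟩
    · exact ⟨S4.DSub.mul_mem hu.1 hv.2, S4.DSub.mul_mem hu.2 hv.1⟩
  inv_mem' {u} hu := by
    obtain ⟨a, b, s⟩ := u
    cases s
    · exact ⟨S4.DSub.inv_mem hu.1, S4.DSub.inv_mem hu.2⟩
    · exact ⟨S4.DSub.inv_mem hu.2, S4.DSub.inv_mem hu.1⟩

/-- The base of the Sylow subgroup. -/
def T0W : Subgroup W := prodSub S4.DSub S4.DSub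
def AW : Subgroup W := prodSub S4.VSub S4.VSub
def BW : Subgroup W := prodSub S4.WSub S4.WSub
def EW : Subgroup W := prodSub S4.VSub S4.WSub
def FW : Subgroup W := prodSub S4.WSub S4.VSub
def Z0W : Subgroup W := prodSub S4.ZSub S4.ZSub
def V1W : Subgroup W := prodSub S4.VSub ⊥

instance decTW : DecidablePred (· ∈ TW) := fun u => decidable_of_iff (S4.inD u.a = true ∧ S4.inD u.b = true) Iff.rfl
instance decT0W : DecidablePred (· ∈ T0W) := fun u =>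
  decidable_of_iff (u.s = false ∧ S4.inD u.a = true ∧ S4.inD u.b = true) Iff.rfl
instance decAW : DecidablePred (· ∈ AW) := fun u =>
  decidable_of_iff (u.s = false ∧ S4.inV u.a = true ∧ S4.inV u.b = true) Iff.rfl
instance decBW : DecidablePred (· ∈ BW) := fun u =>
  decidable_of_iff (u.s = false ∧ S4.inW u.a = true ∧ S4.inW u.b = true) Iff.rfl
instance decEW : DecidablePred (· ∈ EW) := fun u =>
  decidable_of_iff (u.s = false ∧ S4.inV u.a = true ∧ S4.inW u.b = true) Iff.rfl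
instance decFW : DecidablePred (· ∈ FW) := fun u =>
  decidable_of_iff (u.s = false ∧ S4.inW u.a = true ∧ S4.inV u.b = true) Iff.rfl
instance decZ0W : DecidablePred (· ∈ Z0W) := fun u =>
  decidable_of_iff (u.s = false ∧ (S4.inV u.a = true ∧ S4.inW u.a = true) ∧ (S4.inV u.b = true ∧ S4.inW u.b = true))
    Iff.rfl
instance decV1W : DecidablePred (· ∈ V1W) := fun u =>
  decidable_of_iff (u.s = false ∧ S4.inV u.a = true ∧ u.b = 1) Iff.rfl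



def z1 : W := ⟨S4.z, 1, false⟩
def z2 : W := ⟨1, S4.z, false⟩
def zz : W := ⟨S4.z, S4.z, false⟩
def a1 : W := ⟨S4.a, 1, false⟩
def a2 : W := ⟨1, S4.a, false⟩
def x1 : W := ⟨S4.x, 1, false⟩
def x2 : W := ⟨1, S4.x, false⟩
def y1 : W := ⟨S4.y, 1, false⟩
def y2 : W := ⟨1, S4.y, false⟩
def sw : W := ⟨1, 1, true⟩

/-- The list of the elements of the dihedral group. -/
def DL : List S4 := [⟨0⟩, ⟨1⟩, ⟨6⟩, ⟨7⟩, ⟨16⟩, ⟨17⟩, ⟨22⟩, ⟨23⟩]

theorem mem_DL : ∀ a : S4, a ∈ S4.DSub → a ∈ DL := fun a h =>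
  (by decide +kernel : ∀ a : S4, S4.inD a = true → a ∈ DL) a h

/-- The list of the elements of the Sylow subgroup. -/
def TL : List W := DL.flatMap fun a => DL.flatMap fun b => [⟨a, b, false⟩, ⟨a, b, true⟩]

theorem mem_TL {u : W} (h : u ∈ TW) : u ∈ TL := by
  obtain ⟨a, b, s⟩ := u
  exact List.mem_flatMap.2 ⟨a, mem_DL a h.1, List.mem_flatMap.2 ⟨b, mem_DL b h.2, by cases s <;> simp⟩⟩

/-- Representatives for the quotient by the normal four-groups, and the exchange. -/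
def ML : List W :=
  [1, y1, y1 * y1, y2, y1 * y2, y1 * y1 * y2, y2 * y2, y1 * (y2 * y2), y1 * y1 * (y2 * y2),
   sw, sw * y1, sw * (y1 * y1), sw * y2, sw * (y1 * y2), sw * (y1 * y1 * y2), sw * (y2 * y2),
   sw * (y1 * (y2 * y2)), sw * (y1 * y1 * (y2 * y2))]

theorem card_facts : Fintype.card {u : W // u ∈ TW} = 128 ∧ Fintype.card {u : W // u ∈ T0W} = 64 ∧
    Fintype.card {u : W // u ∈ AW} = 16 ∧ Fintype.card {u : W // u ∈ BW} = 16 ∧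
    Fintype.card {u : W // u ∈ EW} = 16 ∧ Fintype.card {u : W // u ∈ FW} = 16 ∧ Fintype.card W = 1152 := by
  decide +kernel

theorem core_in_A : ∀ u ∈ TL, (∀ m ∈ ML, m * u * m⁻¹ ∈ TW) → u ∈ AW := by decide +kernel

theorem A_gen : ∀ u ∈ TL, u ∈ AW → u = 1 ∨
    ((∃ k ∈ ML, u = k * z1 * k⁻¹) ∨ ∃ k ∈ ML, ∃ l ∈ ML, u = k * z1 * k⁻¹ * (l * z1 * l⁻¹)) := by decide +kernel

theorem A_irred : ∀ u ∈ TL, u ∈ AW → u ≠ 1 →
    ((∃ k ∈ ML, k * u * k⁻¹ = z1) ∨ ∃ m ∈ ML, ∃ k ∈ ML, k * (u * (m * u * m⁻¹)) * k⁻¹ = z1) := by decide +kernel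

theorem normal_facts : ∀ m ∈ ML, ∀ u ∈ TL, u ∈ AW → m * u * m⁻¹ ∈ AW := by decide +kernel

theorem A_normal : ∀ m : W, m * z1 * m⁻¹ ∈ AW ∧ m * a1 * m⁻¹ ∈ AW ∧ m * z2 * m⁻¹ ∈ AW ∧ m * a2 * m⁻¹ ∈ AW := by
  decide +kernel

theorem cent_A : ∀ m : W, m * z1 = z1 * m → m * a1 = a1 * m → m * z2 = z2 * m → m * a2 = a2 * m → m ∈ AW := by
  decide +kernel

theorem norm_T0 : ∀ m : W, m * x1 * m⁻¹ ∈ T0W → m * a1 * m⁻¹ ∈ T0W → m * x2 * m⁻¹ ∈ T0W →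
    m * a2 * m⁻¹ ∈ T0W → m ∈ TW := by decide +kernel

theorem norm_T : ∀ m : W, m * x1 * m⁻¹ ∈ TW → m * a1 * m⁻¹ ∈ TW → m * x2 * m⁻¹ ∈ TW →
    m * a2 * m⁻¹ ∈ TW → m * sw * m⁻¹ ∈ TW → m ∈ TW := by decide +kernel

theorem zz_not_z1 : ∀ m : W, m * zz * m⁻¹ ≠ z1 := by decide +kernel

theorem T_normal : ∀ t ∈ TL, ∀ u ∈ TL, (u ∈ T0W → t * u * t⁻¹ ∈ T0W) ∧ (u ∈ AW → t * u * t⁻¹ ∈ AW) ∧
    (u ∈ BW → t * u * t⁻¹ ∈ BW) ∧ (u ∈ Z0W → t * u * t⁻¹ ∈ Z0W) := by decide +kernel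

theorem rank_s : ∀ u ∈ TL, u.s = true → u * u = 1 →
    ((TL.filter fun t => decide (t ∈ T0W ∧ t * t = 1 ∧ t * u = u * t)).length ≤ 6) := by decide +kernel

theorem TL_nodup : TL.Nodup := by decide +kernel

theorem rank_coord : ∀ d ∈ DL, ∀ e ∈ DL, d * d = 1 → e * e = 1 → d * e = e * d →
    ((S4.inV d = true ∨ S4.inW d = true) ∧
      ((S4.inV d = true ∧ S4.inV e = true) ∨ (S4.inW d = true ∧ S4.inW e = true))) := by decide +kernel

theorem inter_facts :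
    Fintype.card {u : W // u ∈ AW ∧ u ∈ BW} = 4 ∧ Fintype.card {u : W // u ∈ EW ∧ u ∈ FW} = 4 ∧
    Fintype.card {u : W // u ∈ AW ∧ u ∈ EW} = 8 ∧ Fintype.card {u : W // u ∈ AW ∧ u ∈ FW} = 8 ∧
    Fintype.card {u : W // u ∈ BW ∧ u ∈ EW} = 8 ∧ Fintype.card {u : W // u ∈ BW ∧ u ∈ FW} = 8 := by
  decide +kernel

theorem misc : x1 ∈ T0W ∧ x2 ∈ T0W ∧ a1 ∈ T0W ∧ a2 ∈ T0W ∧ sw ∈ TW ∧ z1 ∈ Z0W ∧ z2 ∈ Z0W ∧ zz ∈ Z0W ∧
    z1 ∈ AW ∧ z2 ∈ AW ∧ a1 ∈ AW ∧ a2 ∈ AW ∧ zz ≠ 1 ∧ z1 ≠ 1 ∧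
    sw * x2 * sw⁻¹ ∉ EW ∧ x2 ∈ EW ∧ sw * x1 * sw⁻¹ ∉ FW ∧ x1 ∈ FW := by decide +kernel

end W

end Cfsg.Agent.Lib.WrS4QT
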