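import Cfsg.Agent.Lib.WrS4QT.ZCent
import Cfsg.Agent.Lib.WrS4QT.OFacts
import Cfsg.Agent.S0111
import Cfsg.Agent.Lib.Characters.Complete

/-!
# The transfers: `x₁` is conjugate to `z₁`, and the exchange fuses into `B`
-/

set_option autoImplicit false
set_option linter.style.haveILetI false
set_option linter.unusedSectionVars false
set_option maxRecDepth 4000

open Cfsg

namespace Cfsg.Agent.Lib.WrS4QT

open W

namespace Data

variable {G : Type*} [Group G] [Finite G] (d : Data G)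

/-- The normaliser of `B`. -/
abbrev NB : Subgroup G := Subgroup.normalizer (d.im BW : Set G)

theorem BW_le_TW {u : W} (hu : u ∈ BW) : u ∈ TW := (subset_TW u).2.2.2.2.2 ((subset_TW u).1 hu)

theorem NB_move {k : G} (hk : k ∈ d.NB) {u : W} (hu : u ∈ BW) :
    ∃ v ∈ BW, k * d.ι u * k⁻¹ = d.ι v := by
  obtain ⟨v, hv, he⟩ := (Subgroup.mem_normalizer_iff.1 hk _).1 (d.mem_im.2 hu)
  exact ⟨v, hv, he.symm⟩

theorem mem_NB_of_BW {u : W} (hu : u ∈ BW) : d.ι u ∈ d.NB :=
  d.T_le_NB (d.mem_TG.2 (BW_le_TW hu))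

theorem conj_model (m u : W) : IsConj (d.ι u) (d.ι (m * u * m⁻¹)) :=
  isConj_iff.2 ⟨d.ι m, by rw [map_mul, map_mul, map_inv]⟩

theorem conj_of_eq {m u v : W} (h : m * u * m⁻¹ = v) : IsConj (d.ι u) (d.ι v) := h ▸ d.conj_model m u

theorem conj_RX {u : W} (hu : u ∈ RXl) : IsConj (d.ι x1) (d.ι u) := by
  obtain ⟨t, -, ht⟩ := (RX_conj u hu).2
  exact d.conj_of_eq ht

theorem conj_ZX {u : W} (hu : u ∈ ZXl) : IsConj (d.ι (x1 * z2)) (d.ι u) := by
  obtain ⟨t, -, ht⟩ := (ZX_conj u hu).2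
  exact d.conj_of_eq ht

theorem conj_XX {u : W} (hu : u ∈ XXl) : IsConj (d.ι xx) (d.ι u) := by
  obtain ⟨t, -, ht⟩ := (XX_conj u hu).2
  exact d.conj_of_eq ht

theorem conj_z2 : IsConj (d.ι z1) (d.ι z2) := d.conj_of_eq conj_facts.1

theorem im_ι_ne {u : W} (h : u ≠ 1) : d.ι u ≠ 1 := fun e => h (d.inj (e.trans (map_one d.ι).symm))

theorem orderOf_ι {u : W} (h : u * u = 1) (h1 : u ≠ 1) : orderOf (d.ι u) = 2 := by
  haveI : Fact (Nat.Prime 2) := ⟨Nat.prime_two⟩
  exact orderOf_eq_prime (by rw [pow_two, ← map_mul, h, map_one]) (d.im_ι_ne h1)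

include d in
theorem no_index_two (M : Subgroup G) (hM : M.Normal) : M.index ≠ 2 := by
  haveI := d.simple
  intro h
  rcases IsSimpleGroup.eq_bot_or_eq_top_of_normal M hM with rfl | rfl
  · haveI : Fact (Nat.Prime 2) := ⟨Nat.prime_two⟩
    rw [Subgroup.index_bot] at h
    haveI : IsCyclic G := isCyclic_of_prime_card h
    exact d.nonab ⟨⟨fun a b => (IsCyclic.commGroup (α := G)).mul_comm a b⟩⟩
  · rw [Subgroup.index_top] at h
    omega

/-- The orbit formula inside `N(B)`. -/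
theorem orbit_card {u : W} (hu : u ∈ BW) (L : List W) (hL : L.Nodup)
    (h1 : ∀ v ∈ L, v ∈ BW ∧ IsConj (d.ι u) (d.ι v))
    (h2 : ∀ v ∈ BW, IsConj (d.ι u) (d.ι v) → v ∈ L) :
    L.length * Nat.card (Subgroup.centralizer ({d.ι u} : Set G) ⊓ d.NB : Subgroup G) = Nat.card d.NB := by
  classical
  set x : d.NB := ⟨d.ι u, d.mem_NB_of_BW hu⟩
  rw [← Characters.Complete.card_conjugates_mul_centralizer x]
  congr 1
  · rw [← List.toFinset_card_of_nodup hL, ← Nat.card_eq_finsetCard]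
    refine Nat.card_congr (Equiv.ofBijective (fun v => ⟨⟨d.ι v.1,
      d.mem_NB_of_BW (h1 v.1 (List.mem_toFinset.1 v.2)).1⟩, ?_⟩) ⟨?_, ?_⟩)
    · obtain ⟨hv, hc⟩ := h1 v.1 (List.mem_toFinset.1 v.2)
      obtain ⟨k, hk, he⟩ := d.fusion_B hu hv hc
      exact isConj_iff.2 ⟨⟨k, hk⟩, Subtype.ext he⟩
    · intro a b h
      exact Subtype.ext (d.inj (congrArg (fun y => ((y.1 : d.NB) : G)) h))
    · rintro ⟨y, hy⟩
      obtain ⟨k, hk⟩ := isConj_iff.1 hy
      obtain ⟨v, hv, he⟩ := d.NB_move k.2 hu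
      have hyv : (y : G) = d.ι v := by rw [← hk]; exact he
      exact ⟨⟨v, List.mem_toFinset.2 (h2 v hv (isConj_iff.2 ⟨k, he⟩))⟩, Subtype.ext (Subtype.ext hyv.symm)⟩
  · refine Nat.card_congr
      { toFun := fun g => ⟨⟨g.1, g.2.2⟩, Subgroup.mem_centralizer_singleton_iff.2
          (Subtype.ext (Subgroup.mem_centralizer_singleton_iff.1 g.2.1))⟩
        invFun := fun g => ⟨g.1.1, Subgroup.mem_centralizer_singleton_iff.2
          (congrArg Subtype.val (Subgroup.mem_centralizer_singleton_iff.1 g.2)), g.1.2⟩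
        left_inv := fun g => rfl
        right_inv := fun g => rfl }

include d in
theorem not_256 : ¬ 256 ∣ Nat.card G := by
  haveI : Fact (Nat.Prime 2) := ⟨Nat.prime_two⟩
  intro h
  have h1 := d.T.card_eq_multiplicity
  rw [d.card_T, show 128 = 2 ^ 7 from rfl] at h1
  have h2 := (Nat.Prime.pow_dvd_iff_le_factorization Nat.prime_two Nat.card_pos.ne').1
    (show 2 ^ 8 ∣ Nat.card G from h)
  have h3 := Nat.pow_right_injective le_rfl h1
  omega

theorem x1_not_zz : ¬ IsConj (d.ι zz) (d.ι x1) := by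
  intro h
  obtain ⟨k, hk, he⟩ := d.fusion_B misc_B.2.2.2.2.1 y2_x1.2.2.2 h
  set y := k⁻¹ * d.ι y2 * k
  have hy : y ∈ d.Kz := Subgroup.mem_centralizer_singleton_iff.2 (by
    have h1 : d.ι zz = k⁻¹ * d.ι x1 * k := by rw [← he]; group
    rw [h1, show y * (k⁻¹ * d.ι x1 * k) = k⁻¹ * (d.ι y2 * d.ι x1) * k by simp only [y]; group,
      ← map_mul, y2_x1.1, map_mul]
    simp only [y]; group)
  have h2 : d.ι y2 ∈ d.NB := by
    have := mul_mem (mul_mem hk (d.Kz_le hy)) (inv_mem hk)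
    rwa [show k * y * k⁻¹ = d.ι y2 by simp only [y]; group] at this
  obtain ⟨v, hv, hve⟩ := d.NB_move h2 y2_x1.2.2.1
  rw [← map_inv, ← map_mul, ← map_mul] at hve
  exact y2_x1.2.1 (d.inj hve ▸ hv)

/-- The second subgroup of index two. -/
def T1 : Subgroup W where
  carrier := {u | u ∈ TW ∧ par u = false}
  one_mem' := ⟨TW.one_mem, par_facts.1⟩
  mul_mem' {u v} hu hv := ⟨TW.mul_mem hu.1 hv.1, by
    rw [par_mul u (mem_TL hu.1) v (mem_TL hv.1), hu.2, hv.2]; rfl⟩
  inv_mem' {u} hu := ⟨TW.inv_mem hu.1, by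
    have h := par_mul u (mem_TL hu.1) u⁻¹ (mem_TL (TW.inv_mem hu.1))
    rw [mul_inv_cancel, par_facts.1, hu.2, Bool.false_xor] at h
    exact h.symm⟩

theorem transfer {X : Subgroup W} (hX : X ≤ TW) (hc : Nat.card X = 64) {u : W} (hu : u ∈ TW) (huX : u ∉ X)
    (h2 : u * u = 1) (h1 : u ≠ 1) : ∃ v ∈ X, v * v = 1 ∧ v ≠ 1 ∧ IsConj (d.ι u) (d.ι v) := by
  have hXT : d.im X ≤ (d.T : Subgroup G) := by rw [d.hT]; exact Subgroup.map_mono hX
  have hi : (d.im X).relIndex (d.T : Subgroup G) = 2 := by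
    have h := Subgroup.card_mul_index ((d.im X).subgroupOf (d.T : Subgroup G))
    rw [Nat.card_congr (Subgroup.subgroupOfEquivOfLe hXT).toEquiv, card_im, hc, d.card_T] at h
    show ((d.im X).subgroupOf (d.T : Subgroup G)).index = 2
    omega
  rcases Cfsg.Agent.S0111.result d.T (d.im X) hXT hi (d.ι u) (d.orderOf_ι h2 h1) (d.mem_TG.2 hu)
      (fun h => huX (d.mem_im.1 h)) with ⟨M, hM, hM2, -⟩ | ⟨g, hg⟩
  · exact absurd hM2 (d.no_index_two M hM)
  · obtain ⟨v, hv, he⟩ := hg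
    have hc' : IsConj (d.ι u) (d.ι v) := isConj_iff.2 ⟨g, he.symm⟩
    refine ⟨v, hv, d.inj ?_, fun h => ?_, hc'⟩
    · rw [map_mul, he, show g * d.ι u * g⁻¹ * (g * d.ι u * g⁻¹) = g * (d.ι u * d.ι u) * g⁻¹ by group,
        ← map_mul, h2, map_one, mul_one, mul_inv_cancel]
    · rw [h, map_one, eq_comm, conj_eq_one_iff] at he
      exact d.im_ι_ne h1 he

theorem x1_conj_xx_or : IsConj (d.ι x1) (d.ι xx) ∨ IsConj (d.ι z1) (d.ι x1) := by
  obtain ⟨v, hv, hv2, hv1, hc⟩ := d.transfer (X := T1) (fun u hu => hu.1)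
    (by
      rw [card_eq_filter (S := T1) (fun u hu => hu.1) (f := fun u => decide (u ∈ TW) && !par u) (fun u => by
        rw [Bool.and_eq_true, decide_eq_true_eq, Bool.not_eq_true']; rfl)]
      rw [← par_facts.2.2.2.2.2.2.2.1]
      congr 1)
    (u := x1) (BW_le_TW y2_x1.2.2.2) (fun h => by
      have := h.2; rw [par_facts.2.1] at this; exact Bool.noConfusion this)
    par_facts.2.2.1 par_facts.2.2.2.1
  rcases T1_involutions v (mem_TL hv.1) hv.2 hv2 with h | h | ⟨m, -, hm⟩ | ⟨m, -, hm⟩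
  · exact absurd h hv1
  · exact Or.inl (hc.trans (d.conj_XX h).symm)
  · exact Or.inr (hc.trans (d.conj_of_eq hm)).symm
  · exact absurd (hc.trans (d.conj_of_eq hm)).symm d.x1_not_zz

/-- **`x₁` is conjugate to `z₁`.** -/
theorem x1_conj_z1 : IsConj (d.ι z1) (d.ι x1) := by
  by_contra hne
  have hxx := d.x1_conj_xx_or.resolve_right hne
  have hO : ∀ v ∈ BW, IsConj (d.ι x1) (d.ι v) → v ∈ RXl ∨ v ∈ ZXl ∨ v ∈ XXl := by
    intro v hv hc
    rcases B_cases v (mem_TL (BW_le_TW hv)) hv with rfl | rfl | rfl | rfl | h | h | h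
    · rw [map_one, isConj_one_left] at hc
      exact absurd hc (d.im_ι_ne par_facts.2.2.2.1)
    · exact absurd hc.symm hne
    · exact absurd (d.conj_z2.trans hc.symm) hne
    · exact absurd hc.symm d.x1_not_zz
    · exact Or.inl h
    · exact Or.inr (Or.inl h)
    · exact Or.inr (Or.inr h)
  by_cases hzx : IsConj (d.ι x1) (d.ι (x1 * z2))
  · -- the complement of the orbit is `Z₀`
    have hmove : ∀ k ∈ d.NB, ∀ u, IsConj (d.ι z1) (d.ι u) → u ∈ BW →
        k * d.ι u * k⁻¹ = d.ι z1 ∨ k * d.ι u * k⁻¹ = d.ι z2 := by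
      intro k hk u hu huB
      obtain ⟨v, hv, he⟩ := d.NB_move hk huB
      have hc : IsConj (d.ι z1) (d.ι v) := hu.trans (isConj_iff.2 ⟨k, he⟩)
      rcases B_cases v (mem_TL (BW_le_TW hv)) hv with rfl | rfl | rfl | rfl | h | h | h
      · rw [map_one, isConj_one_left] at hc
        exact absurd hc (d.im_ι_ne misc.2.2.2.2.2.2.2.2.2.2.2.2.2.1)
      · exact Or.inl he
      · exact Or.inr he
      · exact absurd hc.symm d.zz_not_conj_z1
      · exact absurd (hc.trans (d.conj_RX h).symm) hne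
      · exact absurd (hc.trans (hzx.trans (d.conj_ZX h)).symm) hne
      · exact absurd (hc.trans (hxx.trans (d.conj_XX h)).symm) hne
    obtain ⟨k, hk, he⟩ := d.fusion_B y2_x1.2.2.2 (XX_conj xx comm_facts.2.2.2.2.2.1).1 hxx
    have hkT : k ∈ (d.T : Subgroup G) := by
      refine d.mem_T_of_pair ?_
      have hne' : k * d.ι z1 * k⁻¹ ≠ k * d.ι z2 * k⁻¹ := fun e =>
        (by decide +kernel : z1 ≠ z2) (d.inj (mul_left_cancel (mul_right_cancel e)))
      rcases hmove k hk z1 (IsConj.refl _) misc_B.2.2.1 with h1 | h1 <;>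
        rcases hmove k hk z2 d.conj_z2 misc_B.2.2.2.1 with h2 | h2
      · exact absurd (h1.trans h2.symm) hne'
      · exact Or.inl ⟨h1, h2⟩
      · exact Or.inr ⟨h1, h2⟩
      · exact absurd (h1.trans h2.symm) hne'
    obtain ⟨t, ht, rfl⟩ := d.exists_of_T hkT
    rw [← map_inv, ← map_mul, ← map_mul] at he
    exact T_orbit_x1 t (mem_TL ht) (d.inj he)
  · -- the orbit has eight elements
    have h8 := d.orbit_card y2_x1.2.2.2 (RXl ++ XXl) (by decide +kernel)
      (fun v hv => by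
        rcases List.mem_append.1 hv with h | h
        · exact ⟨(RX_conj v h).1, d.conj_RX h⟩
        · exact ⟨(XX_conj v h).1, hxx.trans (d.conj_XX h)⟩)
      (fun v hv hc => by
        rcases hO v hv hc with h | h | h
        · exact List.mem_append_left _ h
        · exact absurd (hc.trans (d.conj_ZX h).symm) hzx
        · exact List.mem_append_right _ h)
    set C := (TW : Subgroup W) ⊓ Subgroup.centralizer ({x1} : Set W)
    have hC : d.im C ≤ Subgroup.centralizer ({d.ι x1} : Set G) ⊓ d.NB := by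
      rintro _ ⟨u, hu, rfl⟩
      refine ⟨Subgroup.mem_centralizer_singleton_iff.2 ?_, d.T_le_NB (d.mem_TG.2 hu.1)⟩
      rw [← map_mul, ← map_mul, Subgroup.mem_centralizer_singleton_iff.1 hu.2]
    have h32 : Nat.card C = 32 := by
      rw [← cent_x1_card, card_eq_filter (S := C) inf_le_left (f := fun u => decide (u ∈ TW) && decide (u * x1 = x1 * u))
        (fun u => by
          rw [Bool.and_eq_true, decide_eq_true_eq, decide_eq_true_eq]
          exact and_congr Iff.rfl Subgroup.mem_centralizer_singleton_iff)]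
      congr 1
    have h256 : 256 ∣ Nat.card d.NB := by
      rw [← h8, show (RXl ++ XXl).length = 8 from rfl, show 256 = 8 * 32 from rfl]
      refine Nat.mul_dvd_mul_left _ ?_
      rw [← h32, ← d.card_im C]
      exact Subgroup.card_dvd_of_le hC
    exact d.not_256 (h256.trans (Subgroup.card_subgroup_dvd_card _))

/-- The exchange is conjugate to an element of `B`. -/
theorem sw_fuses : ∃ b ∈ BW, b ≠ 1 ∧ IsConj (d.ι sw) (d.ι b) := by
  obtain ⟨v, hv, hv2, hv1, hc⟩ := d.transfer (X := T0W) (fun u hu => (subset_TW u).2.2.2.2.2 hu)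
    (by rw [card_sub, card_facts.2.1]) (u := sw) misc.2.2.2.2.1 par_facts.2.2.2.2.2.2.1
    par_facts.2.2.2.2.1 par_facts.2.2.2.2.2.1
  obtain ⟨m, -, hm⟩ := T0_involutions v (mem_TL ((subset_TW v).2.2.2.2.2 hv)) hv hv2
  refine ⟨_, hm, fun h => hv1 ?_, hc.trans (d.conj_model m v)⟩
  rwa [conj_eq_one_iff] at h

end Data

end Cfsg.Agent.Lib.WrS4QT
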