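import Cfsg.Agent.Lib.WrS4QT.Cent
import Cfsg.Agent.Lib.WrS4QT.ZFacts

/-!
# The centraliser of `z` normalises `B`
-/

set_option autoImplicit false
set_option linter.style.haveILetI false
set_option linter.unusedSectionVars false
set_option maxRecDepth 4000

open Cfsg
open scoped commutatorElement

namespace Cfsg.Agent.Lib.WrS4QT

open W

namespace Data

variable {G : Type*} [Group G] [Finite G] (d : Data G)

/-- The centraliser of `z`. -/
abbrev Kz : Subgroup G := Subgroup.centralizer ({d.ι zz} : Set G)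

theorem T_le_Kz : (d.T : Subgroup G) ≤ d.Kz := fun g hg => by
  obtain ⟨t, ht, rfl⟩ := d.exists_of_T hg
  refine Subgroup.mem_centralizer_singleton_iff.2 ?_
  rw [← map_mul, ← map_mul, (cent_facts t (mem_TL ht)).2.2.2]

theorem Kz_char2 : IsOfCharacteristicTwo d.Kz := by
  haveI : Fact (Nat.Prime 2) := ⟨Nat.prime_two⟩
  set U := Subgroup.zpowers (d.ι zz)
  have hz2 : d.ι zz ^ 2 = 1 := by rw [pow_two, ← map_mul, conj_facts.2.2.2.1, map_one]
  have hU : Subgroup.normalizer (U : Set G) = d.Kz := by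
    refine le_antisymm (fun g hg => ?_) (fun g hg => ?_)
    · refine Subgroup.mem_centralizer_singleton_iff.2 ?_
      have h1 := (Subgroup.mem_normalizer_iff.1 hg _).1 (Subgroup.mem_zpowers (d.ι zz))
      obtain ⟨k, hk⟩ := Subgroup.mem_zpowers_iff.1 h1
      rcases Int.even_or_odd k with ⟨j, rfl⟩ | ⟨j, rfl⟩
      · rw [← two_mul, zpow_mul, zpow_two, ← pow_two, hz2, one_zpow, eq_comm, conj_eq_one_iff] at hk
        exact absurd (d.inj (hk.trans (map_one d.ι).symm)) misc.2.2.2.2.2.2.2.2.2.2.2.2.1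
      · rw [zpow_add, zpow_mul, zpow_two, ← pow_two, hz2, one_zpow, one_mul, zpow_one, eq_comm] at hk
        exact mul_inv_eq_iff_eq_mul.1 hk
    · refine Baumann.mem_normalizer_of_forall fun x hx => ?_
      obtain ⟨k, rfl⟩ := Subgroup.mem_zpowers_iff.1 hx
      have hc : g * d.ι zz * g⁻¹ = d.ι zz := mul_inv_eq_iff_eq_mul.2 (Subgroup.mem_centralizer_singleton_iff.1 hg)
      rw [← conj_zpow, hc]
      exact Subgroup.zpow_mem _ (Subgroup.mem_zpowers _) k
  rw [← hU]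
  refine d.char2 ((d.T.isPGroup').to_le (Subgroup.zpowers_le.2 (d.mem_TG.2 misc_B.2.2.2.2.2.2.2.2.2.2))) ?_
    (hU.symm ▸ d.T_le_Kz)
  exact fun h => misc.2.2.2.2.2.2.2.2.2.2.2.2.1 (d.inj ((Subgroup.zpowers_eq_bot.1 h).trans (map_one d.ι).symm))

/-- **`C(z) ≤ N(B)`.** -/
theorem Kz_le : d.Kz ≤ Subgroup.normalizer (d.im BW : Set G) := by
  classical
  haveI : Fact (Nat.Prime 2) := ⟨Nat.prime_two⟩
  set K := d.Kz
  set P := QTSetup.Char2.coreP 2 K
  have hPn : K ≤ Subgroup.normalizer (P : Set G) := QTSetup.Char2.le_normalizer_coreP K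
  have hPT : P ≤ (d.T : Subgroup G) := le_sup_right.trans
    (d.T.3 (d.T.isPGroup'.to_sup_of_normal_right' (QTSetup.Char2.coreP_isPGroup K) (d.T_le_Kz.trans hPn))
      le_sup_left).le
  have hz1K : d.ι z1 ∈ K := d.T_le_Kz (d.im_T0_le (d.mem_im.2
    ((subset_TW z1).1 misc_B.2.2.1)))
  have hz1P : d.ι z1 ∈ P := by
    by_cases h : ∀ g ∈ P, g ∈ d.im T0W
    · have h1 : (⟨d.ι z1, hz1K⟩ : K) ∈ Subgroup.centralizer (pCore 2 ↥K : Set ↥K) := by
        refine Subgroup.mem_centralizer_iff.2 fun q hq => Subtype.ext ?_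
        obtain ⟨u, hu, hue⟩ := h (q : G) ⟨q, hq, rfl⟩
        show (q : G) * d.ι z1 = d.ι z1 * q
        rw [← hue, ← map_mul, ← map_mul, ((cent_facts u (mem_TL ((subset_TW u).2.2.2.2.2 hu))).2.2.1 hu).1]
      exact ⟨_, d.Kz_char2 h1, rfl⟩
    · push Not at h
      obtain ⟨g, hgP, hg0⟩ := h
      obtain ⟨u, hu, rfl⟩ := d.exists_of_T (hPT hgP)
      have hs : u.s = true := by
        cases hs : u.s
        · exact absurd ((d.mem_im (S := T0W)).2 ⟨hs, hu.1, hu.2⟩) hg0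
        · rfl
      have hcl : ∀ v : W, v ∈ T0W → ∀ w ∈ P, d.ι v * w * (d.ι v)⁻¹ ∈ P := fun v hv w hw =>
        (Subgroup.mem_normalizer_iff.1 (hPn (d.T_le_Kz (d.im_T0_le (d.mem_im.2 hv)))) w).1 hw
      have h1 : d.ι (x1 * u * x1⁻¹ * u⁻¹) ∈ P := by
        rw [map_mul, map_mul, map_mul, map_inv, map_inv]
        exact mul_mem (hcl x1 misc.1 _ hgP) (inv_mem hgP)
      have h2 : d.ι (a1 * (x1 * u * x1⁻¹ * u⁻¹) * a1⁻¹ * (x1 * u * x1⁻¹ * u⁻¹)⁻¹) ∈ P := by
        rw [map_mul, map_mul, map_mul, map_inv d.ι a1, map_inv d.ι (x1 * u * x1⁻¹ * u⁻¹)]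
        exact mul_mem (hcl a1 misc.2.2.1 _ h1) (inv_mem h1)
      rwa [s_comm u (mem_TL hu) hs] at h2
  -- the class of `z₁` in `K`
  set Rw : W → Prop := fun u => ∃ k ∈ K, k * d.ι z1 * k⁻¹ = d.ι u with hRw
  have hRT : ∀ u, Rw u → u ∈ TW := by
    rintro u ⟨k, hk, he⟩
    exact d.mem_TG.1 (hPT (he ▸ (Subgroup.mem_normalizer_iff.1 (hPn hk) _).1 hz1P))
  have hRP : ∀ u, Rw u → d.ι u ∈ P := by
    rintro u ⟨k, hk, he⟩
    exact he ▸ (Subgroup.mem_normalizer_iff.1 (hPn hk) _).1 hz1P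
  have hR1 : Rw z1 := ⟨1, one_mem _, by simp⟩
  have hRc : ∀ t ∈ TW, ∀ u, Rw u → Rw (t * u * t⁻¹) := by
    rintro t ht u ⟨k, hk, he⟩
    refine ⟨d.ι t * k, mul_mem (d.T_le_Kz (d.mem_TG.2 ht)) hk, ?_⟩
    rw [map_mul, map_mul, map_inv, ← he]; group
  have hswK : d.ι sw ∈ K := d.T_le_Kz (d.mem_TG.2 misc.2.2.2.2.1)
  have hRz : ∀ u, Rw u → Rw (zz * u) := by
    rintro u ⟨k, hk, he⟩
    refine ⟨k * d.ι sw, mul_mem hk hswK, ?_⟩
    have hkz : k * d.ι zz = d.ι zz * k := Subgroup.mem_centralizer_singleton_iff.1 hk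
    have h2 : d.ι sw * d.ι z1 * (d.ι sw)⁻¹ = d.ι zz * d.ι z1 := by
      rw [← map_inv, ← map_mul, ← map_mul, ← map_mul, conj_facts.1, conj_facts.2.2.1]
    calc k * d.ι sw * d.ι z1 * (k * d.ι sw)⁻¹ = k * (d.ι sw * d.ι z1 * (d.ι sw)⁻¹) * k⁻¹ := by group
      _ = k * d.ι zz * (d.ι z1 * k⁻¹) := by rw [h2]; group
      _ = d.ι zz * (k * d.ι z1 * k⁻¹) := by rw [hkz]; group
      _ = d.ι (zz * u) := by rw [he, map_mul]
  have hnot : ∀ u, Rw u → ∀ m : W, m * u * m⁻¹ ≠ zz := by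
    rintro u ⟨k, hk, he⟩ m hm
    refine d.zz_not_conj_z1 (isConj_iff.2 ⟨k⁻¹ * (d.ι m)⁻¹, ?_⟩)
    rw [← hm, map_mul, map_mul, map_inv, ← he]; group
  have hsq : ∀ u, Rw u → u * u = 1 ∧ u ≠ 1 := by
    rintro u ⟨k, hk, he⟩
    refine ⟨d.inj ?_, fun h => ?_⟩
    · rw [map_mul, ← he, show k * d.ι z1 * k⁻¹ * (k * d.ι z1 * k⁻¹) = k * (d.ι z1 * d.ι z1) * k⁻¹ by group,
        ← map_mul, conj_facts.2.2.2.2.2, map_one, mul_one, mul_inv_cancel]
    · rw [h, map_one, conj_eq_one_iff] at he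
      exact misc.2.2.2.2.2.2.2.2.2.2.2.2.2.1 (d.inj (he.trans (map_one d.ι).symm))
  have hR2 : Rw z2 := conj_facts.2.2.1 ▸ hRz z1 hR1
  by_cases hx : Rw x1
  · -- the closure of the class contains `B`
    set E := Subgroup.closure {g | ∃ u, Rw u ∧ d.ι u = g}
    have hEP : E ≤ P := (Subgroup.closure_le _).2 (by rintro _ ⟨u, hu, rfl⟩; exact hRP u hu)
    have hBE : d.im BW ≤ E := by
      have hx2 : Rw x2 := conj_facts.2.1 ▸ hRc sw misc.2.2.2.2.1 x1 hx
      have hm : ∀ v, Rw v → ∀ i : Bool, d.ι (if i then v else 1) ∈ E := fun v hv i => by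
        cases i
        · simp only [Bool.false_eq_true, if_false, map_one]; exact one_mem E
        · exact Subgroup.subset_closure ⟨v, hv, rfl⟩
      rintro _ ⟨u, hu, rfl⟩
      obtain ⟨i, j, k, l, rfl⟩ := B_gen u (mem_TL ((subset_TW u).2.2.2.2.2 ((subset_TW u).1 hu))) hu
      rw [map_mul, map_mul, map_mul]
      exact mul_mem (mul_mem (mul_mem (hm _ hR1 i) (hm _ hR2 j)) (hm _ hx k)) (hm _ hx2 l)
    intro k hk
    refine cj_eq_iff.1 (d.wc_B.2 k ?_)
    rintro _ ⟨b, hb, rfl⟩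
    exact hPT ((Subgroup.mem_normalizer_iff.1 (hPn hk) _).1 (hEP (hBE hb)))
  have hclass : ∀ u, Rw u → u = z1 ∨ u = z2 ∨ u ∈ XXl ∨ u ∈ AXl ∨ u ∈ Sl := by
    intro u hu
    rcases classify u (mem_TL (hRT u hu)) (hsq u hu).1 with h | h | h | h | h | h | h | h | h | h | h
    · exact absurd h (hsq u hu).2
    · exact Or.inl h
    · exact Or.inr (Or.inl h)
    · exact absurd (by rw [h]; group) (hnot u hu 1)
    · obtain ⟨m, -, hm⟩ := h; exact absurd hm (hnot u hu m)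
    · obtain ⟨m, -, hm⟩ := h; exact absurd hm (hnot _ (hRz u hu) m)
    · obtain ⟨t, ht, he⟩ := h
      exact absurd (he ▸ hRc t (mem_TW_of_TL ht) u hu) hx
    · obtain ⟨t, ht, he⟩ := h
      exact absurd (he ▸ hRc t (mem_TW_of_TL ht) _ (hRz u hu)) hx
    · exact Or.inr (Or.inr (Or.inl h))
    · exact Or.inr (Or.inr (Or.inr (Or.inl h)))
    · exact Or.inr (Or.inr (Or.inr (Or.inr h)))
  -- membership of a class from one element
  have hall : ∀ (l : List W) (r : W), (∀ u ∈ l, u ∈ TW ∧ ∃ t ∈ TL, t * u * t⁻¹ = r ∧ t⁻¹ * r * t = u) →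
      ∀ u ∈ l, Rw u → ∀ v ∈ l, Rw v := by
    intro l r hl u hu hR v hv
    obtain ⟨t, ht, e1, -⟩ := (hl u hu).2
    obtain ⟨t', ht', -, e2⟩ := (hl v hv).2
    have h1 : Rw r := e1 ▸ hRc t (mem_TW_of_TL ht) u hR
    have h2 := hRc t'⁻¹ (TW.inv_mem (mem_TW_of_TL ht')) r h1
    rwa [inv_inv, e2] at h2
  have hswap : ∀ k ∈ K, ∀ u, Rw u → ∃ v, Rw v ∧ k * d.ι u * k⁻¹ = d.ι v := by
    rintro k hk u ⟨l, hl, he⟩
    have h1 : k * d.ι u * k⁻¹ = k * l * d.ι z1 * (k * l)⁻¹ := by rw [← he]; group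
    have hP1 : k * l * d.ι z1 * (k * l)⁻¹ ∈ (d.T : Subgroup G) :=
      hPT ((Subgroup.mem_normalizer_iff.1 (hPn (mul_mem hk hl)) _).1 hz1P)
    obtain ⟨v, -, hv⟩ := d.exists_of_T hP1
    exact ⟨v, ⟨k * l, mul_mem hk hl, hv.symm⟩, h1.trans hv.symm⟩
  by_cases hs : ∃ u ∈ Sl, Rw u
  · exfalso
    obtain ⟨u0, hu0, hu0R⟩ := hs
    set px : Bool := decide (∃ u ∈ XXl, Rw u) with hpx
    set pa : Bool := decide (∃ u ∈ AXl, Rw u) with hpa
    have hRL : ∀ u, Rw u ↔ u ∈ RL px pa := by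
      intro u
      simp only [RL, List.mem_append, List.mem_cons, List.not_mem_nil, or_false]
      refine ⟨fun hu => ?_, fun hu => ?_⟩
      · rcases hclass u hu with h | h | h | h | h
        · exact Or.inl (Or.inl (Or.inl (Or.inl h)))
        · exact Or.inl (Or.inl (Or.inl (Or.inr h)))
        · refine Or.inl (Or.inl (Or.inr ?_))
          rw [if_pos (hpx ▸ decide_eq_true ⟨u, h, hu⟩)]; exact h
        · refine Or.inl (Or.inr ?_)
          rw [if_pos (hpa ▸ decide_eq_true ⟨u, h, hu⟩)]; exact h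
        · exact Or.inr h
      · rcases hu with ((hu | hu) | hu) | hu
        · rcases hu with rfl | rfl
          · exact hR1
          · exact hR2
        · split at hu
          · rename_i hp
            obtain ⟨v, hv, hvR⟩ := of_decide_eq_true (hpx ▸ hp)
            exact hall _ _ class_conj.1 v hv hvR u hu
          · simp at hu
        · split at hu
          · rename_i hp
            obtain ⟨v, hv, hvR⟩ := of_decide_eq_true (hpa ▸ hp)
            exact hall _ _ class_conj.2.1 v hv hvR u hu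
          · simp at hu
        · exact hall _ _ class_conj.2.2 u0 hu0 hu0R u hu
    have hswR : Rw sw := hall _ _ class_conj.2.2 u0 hu0 hu0R sw comm_facts.2.2.2.2.1
    obtain ⟨k, hk, hke⟩ := hswR
    set L := RL px pa
    have hnd : L.Nodup := (RL_count px pa).2
    choose f hfR hfe using fun u (hu : u ∈ L) => hswap k hk u ((hRL u).2 hu)
    refine (RL_count px pa).1 ?_
    refine le_antisymm ?_ ?_
    · rw [← List.toFinset_card_of_nodup (hnd.filter _), ← List.toFinset_card_of_nodup (hnd.filter _)]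
      refine Finset.card_le_card_of_injOn (fun u => if h : u ∈ L then f u h else 1) (fun u hu => ?_)
        (fun u hu v hv h => ?_)
      · simp only [List.coe_toFinset, List.mem_filter, decide_eq_true_eq, Set.mem_ofPred_eq] at hu ⊢
        rw [dif_pos hu.1]
        refine ⟨(hRL _).1 (hfR u hu.1), d.inj ?_⟩
        rw [map_mul, map_mul, ← hfe, ← hke,
          show k * d.ι u * k⁻¹ * (k * d.ι z1 * k⁻¹) = k * (d.ι u * d.ι z1) * k⁻¹ by group, ← map_mul,
          hu.2, map_mul]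
        group
      · simp only [List.coe_toFinset, List.mem_filter, Set.mem_ofPred_eq] at hu hv
        simp only [dif_pos hu.1, dif_pos hv.1] at h
        refine d.inj (mul_left_cancel (mul_right_cancel (b := k⁻¹) (?_ : k * d.ι u * k⁻¹ = k * d.ι v * k⁻¹)))
        rw [hfe u hu.1, hfe v hv.1, h]
    · choose g hgR hge using fun u (hu : u ∈ L) => hswap k⁻¹ (inv_mem hk) u ((hRL u).2 hu)
      rw [← List.toFinset_card_of_nodup (hnd.filter _), ← List.toFinset_card_of_nodup (hnd.filter _)]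
      refine Finset.card_le_card_of_injOn (fun u => if h : u ∈ L then g u h else 1) (fun u hu => ?_)
        (fun u hu v hv h => ?_)
      · simp only [List.coe_toFinset, List.mem_filter, decide_eq_true_eq, Set.mem_ofPred_eq] at hu ⊢
        rw [dif_pos hu.1]
        refine ⟨(hRL _).1 (hgR u hu.1), d.inj ?_⟩
        have h1 : d.ι z1 = k⁻¹ * d.ι sw * k⁻¹⁻¹ := by rw [← hke]; group
        rw [map_mul, map_mul, ← hge, h1,
          show k⁻¹ * d.ι u * k⁻¹⁻¹ * (k⁻¹ * d.ι sw * k⁻¹⁻¹) = k⁻¹ * (d.ι u * d.ι sw) * k⁻¹⁻¹ by group,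
          ← map_mul, hu.2, map_mul]
        group
      · simp only [List.coe_toFinset, List.mem_filter, Set.mem_ofPred_eq] at hu hv
        simp only [dif_pos hu.1, dif_pos hv.1] at h
        refine d.inj (mul_left_cancel (mul_right_cancel (b := k⁻¹⁻¹)
          (?_ : k⁻¹ * d.ι u * k⁻¹⁻¹ = k⁻¹ * d.ι v * k⁻¹⁻¹)))
        rw [hge u hu.1, hge v hv.1, h]
  push Not at hs
  -- the class is commutative
  have hz1c : ∀ u, Rw u → u * z1 = z1 * u := by
    intro u hu
    rcases hclass u hu with rfl | rfl | h | h | h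
    · rfl
    · exact ((cent_facts z2 (mem_TL (hRT z2 hu))).2.2.1 ((subset_TW z2).1 misc_B.2.2.2.1)).1
    · exact comm_facts.2.1 u (List.mem_append_left _ h)
    · exact comm_facts.2.1 u (List.mem_append_right _ h)
    · exact absurd hu (hs u h)
  have hcomm : ∀ u v, Rw u → Rw v → u * v = v * u := by
    intro u v ⟨k, hk, he⟩ hv
    obtain ⟨w, hw, hwe⟩ := hswap k⁻¹ (inv_mem hk) v hv
    refine d.inj ?_
    have h1 : d.ι v = k * d.ι w * k⁻¹ := by rw [← hwe]; group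
    rw [map_mul, map_mul, ← he, h1,
      show k * d.ι z1 * k⁻¹ * (k * d.ι w * k⁻¹) = k * (d.ι z1 * d.ι w) * k⁻¹ by group,
      ← map_mul, ← hz1c w hw, map_mul]
    group
  have hAX : ∀ u ∈ AXl, ¬ Rw u := fun u hu hR => comm_facts.1
    (hcomm _ _ (hall _ _ class_conj.2.1 u hu hR ax comm_facts.2.2.2.1)
      (hall _ _ class_conj.2.1 u hu hR xa comm_facts.2.2.1))
  intro k hk
  by_cases hX : ∃ u ∈ XXl, Rw u
  · obtain ⟨u0, hu0, hu0R⟩ := hX
    have hxxR : Rw xx := hall _ _ class_conj.1 u0 hu0 hu0R xx comm_facts.2.2.2.2.2.1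
    refine Baumann.mem_normalizer_of_forall ?_
    rintro _ ⟨b, hb, rfl⟩
    have hbT : b ∈ TL := mem_TL ((subset_TW b).2.2.2.2.2 ((subset_TW b).1 hb))
    have hfb : ∀ v, Rw v → b * v = v * b := by
      intro v hv
      obtain ⟨h1, h2, h3⟩ := comm_B b hbT hb
      rcases hclass v hv with rfl | rfl | h | h | h
      · exact h2
      · exact h3
      · exact comm_BX b hbT hb v h
      · exact absurd hv (hAX v h)
      · exact absurd hv (hs v h)
    have hc : ∀ v, Rw v → k * d.ι b * k⁻¹ * d.ι v = d.ι v * (k * d.ι b * k⁻¹) := by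
      intro v hv
      obtain ⟨w, hw, hwe⟩ := hswap k⁻¹ (inv_mem hk) v hv
      have h1 : d.ι v = k * d.ι w * k⁻¹ := by rw [← hwe]; group
      rw [h1, show k * d.ι b * k⁻¹ * (k * d.ι w * k⁻¹) = k * (d.ι b * d.ι w) * k⁻¹ by group,
        ← map_mul, hfb w hw, map_mul]
      group
    obtain ⟨t, ht, hte⟩ := d.cent_pair (hc z1 hR1) (hc z2 hR2)
    refine ⟨t, cent_xx t (mem_TL ((subset_TW t).2.2.2.2.2 ht)) ht (d.inj ?_), hte⟩
    rw [map_mul, map_mul, hte]
    exact hc xx hxxR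
  · push Not at hX
    refine d.T_le_NB (d.mem_T_of_pair ?_)
    have h2 : ∀ u, Rw u → u = z1 ∨ u = z2 := by
      intro u hu
      rcases hclass u hu with h | h | h | h | h
      · exact Or.inl h
      · exact Or.inr h
      · exact absurd hu (hX u h)
      · exact absurd hu (hAX u h)
      · exact absurd hu (hs u h)
    obtain ⟨v, hv, hve⟩ := hswap k hk z1 hR1
    obtain ⟨w, hw, hwe⟩ := hswap k hk z2 hR2
    have hne : v ≠ w := fun e => (by decide +kernel : z1 ≠ z2)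
      (d.inj (mul_left_cancel (mul_right_cancel (b := k⁻¹) (hve.trans (e ▸ hwe.symm)))))
    rcases h2 v hv with rfl | rfl <;> rcases h2 w hw with rfl | rfl
    · exact absurd rfl hne
    · exact Or.inl ⟨hve, hwe⟩
    · exact Or.inr ⟨hve, hwe⟩
    · exact absurd rfl hne

end Data

end Cfsg.Agent.Lib.WrS4QT
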